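import Cfsg.Prelude.Def_Perm
import Cfsg.Agent.Lib.Char.Linear
import Cfsg.Agent.Lib.PermDerange.Counting
import Cfsg.Agent.Lib.Char.Integral
import Mathlib.LinearAlgebra.Trace
import Mathlib.LinearAlgebra.Eigenspace.Triangularizable
import Mathlib.LinearAlgebra.Eigenspace.Charpoly
import Mathlib.LinearAlgebra.Charpoly.ToMatrix
import Mathlib.Algebra.DirectSum.LinearMap

/-!
The permutation character: multiplicities, their norm (the rank), and Frame's divisibility of subdegrees.
-/

set_option autoImplicit false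

open Module MulAction CfsgLib.Char
open scoped ComplexConjugate

namespace CfsgLib.PermChar

variable (G : Type*) [Group G] (Ω : Type*) [MulAction G Ω]

/-- The permutation character. -/
noncomputable def piFun : G → ℂ := fun g => (Nat.card (fixedBy Ω g) : ℂ)

variable {G Ω}

theorem piFun_eq_character [Fintype Ω] : piFun G Ω = (Cfsg.permRep ℂ G Ω).character := by
  classical
  funext g
  rw [Representation.character, LinearMap.trace_eq_matrix_trace ℂ (Pi.basisFun ℂ Ω), Matrix.trace]
  simp only [Matrix.diag_apply, LinearMap.toMatrix_apply, Pi.basisFun_apply, Pi.basisFun_repr]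
  show (Nat.card (fixedBy Ω g) : ℂ) = ∑ x, (Pi.single x (1 : ℂ) : Ω → ℂ) (g⁻¹ • x)
  simp only [Pi.single_apply, inv_smul_eq_iff]
  rw [Finset.sum_boole, Nat.card_eq_fintype_card, Fintype.card_subtype]
  congr 2
  ext x
  simp [fixedBy, eq_comm]

theorem isCharacter_piFun [Fintype G] [Fintype Ω] : Cfsg.IsCharacter G (piFun G Ω) := by
  rw [piFun_eq_character]
  exact isCharacter_character _

theorem piFun_one [Fintype Ω] : piFun G Ω 1 = Fintype.card Ω := by
  simp [piFun]

variable [Fintype G] [Fintype Ω]

theorem classInner_piFun_one [IsPretransitive G Ω] [Nonempty Ω] :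
    Cfsg.classInner (piFun G Ω) (fun _ => 1) = 1 := by
  have h := congrArg (Nat.cast : ℕ → ℂ) (CfsgLib.PermDerange.sum_card_fixedBy_transitive (G := G) (Ω := Ω))
  push_cast at h
  simp only [Cfsg.classInner, piFun, map_one, mul_one]
  rw [h, inv_mul_cancel₀ (Nat.cast_ne_zero.2 Nat.card_pos.ne')]

theorem numOrbitals_eq [IsPretransitive G Ω] (a : Ω) :
    CfsgLib.PermDerange.numOrbitals G Ω = Nat.card (orbitRel.Quotient (stabilizer G a) Ω) := by
  unfold CfsgLib.PermDerange.numOrbitals
  refine (Nat.card_eq_of_bijective (Quotient.map' (fun y : Ω => (a, y)) ?_) ⟨?_, ?_⟩).symm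
  · intro y z h
    obtain ⟨g, rfl⟩ := orbitRel_apply.1 h
    exact orbitRel_apply.2 ⟨(g : G), Prod.ext g.2 rfl⟩
  · intro q q' h
    induction q using Quotient.inductionOn' with | h y =>
    induction q' using Quotient.inductionOn' with | h z =>
    obtain ⟨g, hg⟩ := orbitRel_apply.1 (Quotient.eq''.1 h)
    exact Quotient.eq''.2 (orbitRel_apply.2 ⟨⟨g, congrArg Prod.fst hg⟩, congrArg Prod.snd hg⟩)
  · intro q
    induction q using Quotient.inductionOn' with | h p =>
    obtain ⟨g, hg⟩ := exists_smul_eq G p.1 a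
    exact ⟨Quotient.mk'' (g • p.2), Quotient.eq''.2 (orbitRel_apply.2 ⟨g, Prod.ext hg rfl⟩)⟩

theorem classInner_piFun_self [IsPretransitive G Ω] (a : Ω) :
    Cfsg.classInner (piFun G Ω) (piFun G Ω) = Nat.card (orbitRel.Quotient (stabilizer G a) Ω) := by
  have h := congrArg (Nat.cast : ℕ → ℂ) (CfsgLib.PermDerange.sum_sq_card_fixedBy (G := G) (Ω := Ω))
  push_cast at h
  simp only [Cfsg.classInner, piFun, map_natCast]
  rw [h, numOrbitals_eq a, mul_comm (Nat.card (orbitRel.Quotient (stabilizer G a) Ω) : ℂ),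
    inv_mul_cancel_left₀ (Nat.cast_ne_zero.2 Nat.card_pos.ne')]

/-- Multiplicity of an irreducible character in the permutation character. -/
noncomputable def mult (Ω : Type*) [MulAction G Ω] (χ : G → ℂ) : ℕ :=
  ⌊(Cfsg.classInner (piFun G Ω) χ).re⌋₊

theorem cast_mult {χ : G → ℂ} (hχ : Cfsg.IsIrrCharacter G χ) :
    (mult Ω χ : ℂ) = Cfsg.classInner (piFun G Ω) χ := by
  obtain ⟨k, hk⟩ := IsCharacter.exists_nat_classInner (isCharacter_piFun (G := G) (Ω := Ω)) hχ
  rw [mult, hk, Complex.natCast_re, Nat.floor_natCast]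

theorem classInner_ne_zero_iff {χ : G → ℂ} (hχ : Cfsg.IsIrrCharacter G χ) :
    Cfsg.classInner (piFun G Ω) χ ≠ 0 ↔ mult Ω χ ≠ 0 := by
  rw [← cast_mult hχ, Nat.cast_ne_zero]

theorem mult_principal [IsPretransitive G Ω] [Nonempty Ω] : mult Ω (principalIrr : Cfsg.IrrCharacter G).1 = 1 := by
  have h := cast_mult (Ω := Ω) (principalIrr : Cfsg.IrrCharacter G).2
  rw [show (principalIrr : Cfsg.IrrCharacter G).1 = fun _ => (1 : ℂ) from funext fun g => principalIrr_apply g,
    classInner_piFun_one] at h
  rw [show (principalIrr : Cfsg.IrrCharacter G).1 = fun _ => (1 : ℂ) from funext fun g => principalIrr_apply g]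
  exact_mod_cast h

theorem piFun_eq_sum : piFun G Ω = ∑ χ : Cfsg.IrrCharacter G, (mult Ω χ.1 : ℂ) • χ.1 := by
  conv_lhs => rw [IsCharacter.eq_sum_classInner (isCharacter_piFun (G := G) (Ω := Ω))]
  exact Finset.sum_congr rfl fun χ _ => by rw [cast_mult χ.2]

theorem sum_mult_degree : ∑ χ : Cfsg.IrrCharacter G, mult Ω χ.1 * degree χ.1 = Fintype.card Ω := by
  have h := congrFun (piFun_eq_sum (G := G) (Ω := Ω)) 1
  rw [piFun_one] at h
  simp only [Finset.sum_apply, Pi.smul_apply, smul_eq_mul,
    fun χ : Cfsg.IrrCharacter G => (IsCharacter.degree_cast (IsIrrCharacter.isCharacter χ.2)).symm] at h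
  exact_mod_cast h.symm

theorem sum_mult_sq [IsPretransitive G Ω] (a : Ω) :
    ∑ χ : Cfsg.IrrCharacter G, mult Ω χ.1 * mult Ω χ.1 = Nat.card (orbitRel.Quotient (stabilizer G a) Ω) := by
  have h := classInner_piFun_self (G := G) a
  rw [piFun_eq_sum, classInner_sum_smul_sum_smul] at h
  simp only [map_natCast] at h
  exact_mod_cast h

section Frame

variable {V : Type*} [AddCommGroup V] [Module ℂ V] [FiniteDimensional ℂ V]

omit [Fintype Ω] in
theorem classInner_character_one (ρ : Representation ℂ G V) :
    Cfsg.classInner ρ.character (fun _ => 1) =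
      finrank ℂ (Representation.IntertwiningMap (Representation.trivial ℂ G ℂ) ρ) := by
  rw [← classInner_character]
  congr 1
  funext g
  simp [Representation.character]

end Frame

/-- The orbital relation of a pair of points. -/
def orbital (a b x y : Ω) : Prop := ∃ g : G, g • a = x ∧ g • b = y

/-- **Frame**: a common divisor of the non-principal constituent degrees divides every subdegree. -/
theorem dvd_subdegree [IsPretransitive G Ω] {f : ℕ}
    (hf : ∀ χ : Cfsg.IrrCharacter G, χ ≠ principalIrr → mult Ω χ.1 ≠ 0 → f ∣ degree χ.1)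
    {a b : Ω} (hab : b ≠ a) : f ∣ Nat.card (orbit (stabilizer G a) b) := by
  classical
  haveI : Nonempty Ω := ⟨a⟩
  set ρ := Cfsg.permRep ℂ G Ω with hρ
  let R : Ω → Ω → Prop := orbital (G := G) a b
  have hR : ∀ (h : G) (x y : Ω), R (h • x) (h • y) ↔ R x y := by
    refine fun h x y => ⟨fun ⟨g, g1, g2⟩ => ⟨h⁻¹ * g, ?_, ?_⟩, fun ⟨g, g1, g2⟩ => ⟨h * g, ?_, ?_⟩⟩
    · rw [mul_smul, g1, inv_smul_smul]
    · rw [mul_smul, g2, inv_smul_smul]
    · rw [mul_smul, g1]
    · rw [mul_smul, g2]
  let MZ : Matrix Ω Ω ℤ := Matrix.of fun x y => if R x y then 1 else 0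
  let A : Module.End ℂ (Ω → ℂ) := Matrix.toLin' (MZ.map (Int.castRingHom ℂ))
  have hA : ∀ (v : Ω → ℂ) (x : Ω), A v x = ∑ y, if R x y then v y else 0 := by
    intro v x
    show (MZ.map (Int.castRingHom ℂ)).mulVec v x = _
    rw [Matrix.mulVec, dotProduct]
    refine Finset.sum_congr rfl fun y _ => ?_
    simp only [Matrix.map_apply, MZ, Matrix.of_apply]
    split_ifs <;> simp
  have hcomm : ∀ h : G, Commute A (ρ h) := by
    intro h
    apply LinearMap.ext
    intro v
    funext x
    show A (ρ h v) x = A v (h⁻¹ • x)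
    rw [hA, hA]
    refine (Fintype.sum_equiv (MulAction.toPerm h) (fun y => if R (h⁻¹ • x) y then v y else 0)
      (fun y => if R x y then ρ h v y else 0) fun y => ?_).symm
    show (if R (h⁻¹ • x) y then v y else 0) = if R x (h • y) then v (h⁻¹ • h • y) else 0
    rw [inv_smul_smul]
    have e : R (h⁻¹ • x) y ↔ R x (h • y) := by
      rw [← hR h (h⁻¹ • x) y, smul_inv_smul]
    simp only [e]
  -- the trace is zero
  have htr : LinearMap.trace ℂ _ A = 0 := by
    rw [show A = Matrix.toLin' (MZ.map (Int.castRingHom ℂ)) from rfl, Matrix.trace_toLin'_eq]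
    refine Finset.sum_eq_zero fun x _ => ?_
    simp only [Matrix.diag_apply, Matrix.map_apply, MZ, Matrix.of_apply]
    rw [if_neg, map_zero]
    rintro ⟨g, g1, g2⟩
    exact hab (MulAction.injective g (g2.trans g1.symm))
  -- the constant vector
  set d := Nat.card (orbit (stabilizer G a) b) with hd
  have hconst : A (fun _ => 1) = (d : ℂ) • (fun _ => 1) := by
    funext x
    obtain ⟨h, rfl⟩ := exists_smul_eq G a x
    rw [hA, Pi.smul_apply, smul_eq_mul, mul_one, Finset.sum_boole, hd, Nat.card_eq_fintype_card,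
      ← Finset.card_map (MulAction.toPerm h⁻¹).toEmbedding]
    congr 1
    rw [Fintype.card_ofFinset]
    congr 1
    ext y
    simp only [Finset.mem_map, Finset.mem_filter, Finset.mem_univ, true_and, Equiv.coe_toEmbedding,
      MulAction.toPerm_apply]
    constructor
    · rintro ⟨z, hz, rfl⟩
      obtain ⟨g, g1, g2⟩ := hz
      refine ⟨⟨h⁻¹ * g, ?_⟩, ?_⟩
      · rw [mem_stabilizer_iff, mul_smul, g1, inv_smul_smul]
      · show (h⁻¹ * g) • b = h⁻¹ • z
        rw [mul_smul, g2]
    · rintro ⟨⟨g, hg⟩, rfl⟩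
      exact ⟨h • g • b, ⟨h * g, by rw [mul_smul, mem_stabilizer_iff.1 hg], by rw [mul_smul]⟩,
        inv_smul_smul h _⟩
  -- the generalised eigenspaces
  set E := A.maxGenEigenspace with hE
  have hint : DirectSum.IsInternal E := DirectSum.isInternal_submodule_of_iSupIndep_of_iSup_eq_top
    A.independent_maxGenEigenspace (Module.End.iSup_maxGenEigenspace_eq_top A)
  have hfin : {μ | E μ ≠ ⊥}.Finite := WellFoundedGT.finite_ne_bot_of_iSupIndep A.independent_maxGenEigenspace
  have hAE : ∀ μ, Set.MapsTo A (E μ) (E μ) := fun μ => A.mapsTo_maxGenEigenspace_of_comm (Commute.refl A) μ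
  have htrμ : ∀ μ, LinearMap.trace ℂ _ (A.restrict (hAE μ)) = μ * (finrank ℂ (E μ) : ℂ) := by
    intro μ
    have hn := A.isNilpotent_restrict_maxGenEigenspace_sub_algebraMap μ
    have h0 := (LinearMap.isNilpotent_trace_of_isNilpotent hn).eq_zero
    have e : A.restrict (hAE μ) = LinearMap.restrict (A - algebraMap ℂ _ μ)
        (A.mapsTo_maxGenEigenspace_of_comm (Algebra.mul_sub_algebraMap_commutes A μ) μ) +
          μ • LinearMap.id := by
      refine LinearMap.ext fun v => Subtype.ext ?_
      show A (v : Ω → ℂ) = (A - algebraMap ℂ _ μ) (v : Ω → ℂ) + μ • (v : Ω → ℂ)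
      rw [LinearMap.sub_apply, Module.algebraMap_end_apply, sub_add_cancel]
    rw [e, map_add, h0, zero_add, map_smul, LinearMap.trace_id, smul_eq_mul]
  let S : ℂ → Subrepresentation ρ := fun μ =>
    { toSubmodule := E μ
      apply_mem_toSubmodule := fun g v hv => A.mapsTo_maxGenEigenspace_of_comm (hcomm g) μ hv }
  have hdeg : ∀ μ, ∃ k : ℕ, (finrank ℂ (E μ) : ℂ) = (if μ = d then 1 else 0) + (f : ℂ) * k := by
    intro μ
    set ψ := (S μ).toRepresentation.character with hψ
    have hψc : Cfsg.IsCharacter G ψ := isCharacter_character _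
    obtain ⟨W', hW'⟩ := exists_isCompl (S μ)
    have hc : IsCompl (S μ).toSubmodule W'.toSubmodule := by
      refine ⟨disjoint_iff.mpr ?_, codisjoint_iff.mpr ?_⟩
      · rw [← Subrepresentation.toSubmodule_inf, hW'.inf_eq_bot]; rfl
      · rw [← Subrepresentation.toSubmodule_sup, hW'.sup_eq_top]; rfl
    have hsum : piFun G Ω = ψ + W'.toRepresentation.character :=
      piFun_eq_character.trans (character_eq_add ρ (S μ) W' hc)
    have hW'c : Cfsg.IsCharacter G W'.toRepresentation.character := isCharacter_character _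
    choose m hm using fun χ : Cfsg.IrrCharacter G => IsCharacter.exists_nat_classInner hψc χ.2
    have hmle : ∀ χ : Cfsg.IrrCharacter G, m χ ≤ mult Ω χ.1 := by
      intro χ
      obtain ⟨m', hm'⟩ := IsCharacter.exists_nat_classInner hW'c χ.2
      have h := cast_mult (Ω := Ω) χ.2
      rw [hsum, classInner_add_left, hm, hm'] at h
      have h' : mult Ω χ.1 = m χ + m' := by exact_mod_cast h
      omega
    have hfin2 : (finrank ℂ (E μ) : ℂ) = ∑ χ : Cfsg.IrrCharacter G, (m χ : ℂ) * degree χ.1 := by
      have h1 : ψ 1 = (finrank ℂ (E μ) : ℂ) := (S μ).toRepresentation.char_one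
      rw [← h1]
      conv_lhs => rw [IsCharacter.eq_sum_classInner hψc]
      simp only [Finset.sum_apply, Pi.smul_apply, smul_eq_mul, hm,
        fun χ : Cfsg.IrrCharacter G => (IsCharacter.degree_cast (IsIrrCharacter.isCharacter χ.2)).symm]
    have hprin : m principalIrr = if μ = d then 1 else 0 := by
      have hle := hmle principalIrr
      rw [mult_principal] at hle
      have hm1 := hm principalIrr
      rw [show (principalIrr : Cfsg.IrrCharacter G).1 = fun _ => (1 : ℂ) from
        funext fun g => principalIrr_apply g, classInner_character_one, Nat.cast_inj] at hm1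
      split_ifs with hμ
      · -- the constants lie in the eigenspace
        have hone : (fun _ => (1 : ℂ)) ∈ E μ := by
          rw [hE, Module.End.mem_maxGenEigenspace]
          exact ⟨1, by rw [pow_one]; simp [hconst, hμ]⟩
        let T : Representation.IntertwiningMap (Representation.trivial ℂ G ℂ) (S μ).toRepresentation :=
          ⟨LinearMap.toSpanSingleton ℂ _ (⟨_, hone⟩ : (S μ).toSubmodule), fun g => by
            apply LinearMap.ext
            intro t
            apply Subtype.ext
            simp [Subrepresentation.toRepresentation, ρ, Cfsg.permRep]⟩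
        have hT : T ≠ 0 := by
          intro h
          have h2 := congrArg (fun F => ((F.toLinearMap (1 : ℂ) : (S μ).toSubmodule) : Ω → ℂ) a) h
          simp [T] at h2
        have hpos : m principalIrr ≠ 0 := by
          rw [← hm1]
          haveI : Nontrivial (Representation.IntertwiningMap (Representation.trivial ℂ G ℂ)
            (S μ).toRepresentation) := ⟨⟨T, 0, hT⟩⟩
          exact (Module.finrank_pos (R := ℂ) (M := Representation.IntertwiningMap (Representation.trivial ℂ G ℂ)
            (S μ).toRepresentation)).ne'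
        omega
      · by_contra hne
        have hnt : Nontrivial (Representation.IntertwiningMap (Representation.trivial ℂ G ℂ)
            (S μ).toRepresentation) := Module.nontrivial_of_finrank_pos (R := ℂ) (by omega)
        obtain ⟨T, hT⟩ := exists_ne (0 : Representation.IntertwiningMap (Representation.trivial ℂ G ℂ)
            (S μ).toRepresentation)
        set v : (S μ).toSubmodule := T 1 with hv
        have hinv : ∀ g : G, ρ g (v : Ω → ℂ) = v := by
          intro g
          have h := congrArg (fun F : ℂ →ₗ[ℂ] (S μ).toSubmodule => ((F 1 : (S μ).toSubmodule) : Ω → ℂ))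
            (T.isIntertwining' g)
          simpa [Subrepresentation.toRepresentation, hv] using h.symm
        have hvc : (v : Ω → ℂ) = (v : Ω → ℂ) a • (fun _ => 1) := by
          funext x
          obtain ⟨g, rfl⟩ := exists_smul_eq G a x
          have h := congrFun (hinv g) (g • a)
          simp only [ρ, Cfsg.permRep] at h
          change (v : Ω → ℂ) (g⁻¹ • g • a) = (v : Ω → ℂ) (g • a) at h
          rw [inv_smul_smul] at h
          simp [← h]
        have hvd : (v : Ω → ℂ) ∈ E d := by
          rw [hvc]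
          refine Submodule.smul_mem _ _ ?_
          rw [hE, Module.End.mem_maxGenEigenspace]
          exact ⟨1, by rw [pow_one]; simp [hconst]⟩
        have hdis : Disjoint (E μ) (E d) := A.independent_maxGenEigenspace.pairwiseDisjoint hμ
        have hv0 : (v : Ω → ℂ) = 0 := Submodule.disjoint_def.1 hdis _ v.2 hvd
        apply hT
        ext x
        simpa [hv] using congrFun hv0 x
    choose k hk using fun χ : Cfsg.IrrCharacter G => show ∃ k : ℕ, χ = principalIrr ∨ m χ * degree χ.1 = f * k by
      by_cases hχ : χ = principalIrr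
      · exact ⟨0, Or.inl hχ⟩
      by_cases hmz : m χ = 0
      · exact ⟨0, Or.inr (by simp [hmz])⟩
      obtain ⟨c, hc⟩ := hf χ hχ (by have := hmle χ; omega)
      exact ⟨m χ * c, Or.inr (by rw [hc]; ring)⟩
    refine ⟨∑ χ ∈ Finset.univ.erase principalIrr, k χ, ?_⟩
    rw [hfin2, ← Finset.add_sum_erase _ _ (Finset.mem_univ (principalIrr : Cfsg.IrrCharacter G)), hprin,
      Nat.cast_sum, Finset.mul_sum]
    congr 1
    · have h1 : (degree (principalIrr : Cfsg.IrrCharacter G).1 : ℂ) = 1 := by
        rw [IsCharacter.degree_cast (IsIrrCharacter.isCharacter (principalIrr : Cfsg.IrrCharacter G).2),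
          principalIrr_apply]
      rw [h1, mul_one]
      split_ifs <;> simp
    · refine Finset.sum_congr rfl fun χ hχ => ?_
      rcases hk χ with h | h
      · exact absurd h (Finset.ne_of_mem_erase hχ)
      · exact_mod_cast h
  choose k hk using hdeg
  -- integrality of the eigenvalues
  have hroot : ∀ μ, E μ ≠ ⊥ → IsIntegral ℤ μ := by
    intro μ hμ
    have hev : A.HasEigenvalue μ :=
      Module.End.hasEigenvalue_of_hasGenEigenvalue (k := (finrank ℂ (Ω → ℂ))) (by
        rw [Module.End.hasGenEigenvalue_iff]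
        rwa [← Module.End.maxGenEigenspace_eq_genEigenspace_finrank])
    rw [Module.End.hasEigenvalue_iff_isRoot_charpoly, Matrix.charpoly_toLin', Matrix.charpoly_map,
      Polynomial.IsRoot.def, Polynomial.eval_map] at hev
    exact ⟨MZ.charpoly, MZ.charpoly_monic, hev⟩
  have hd1 : (d : ℂ) ∈ hfin.toFinset := by
    rw [Set.Finite.mem_toFinset]
    show E d ≠ ⊥
    intro h0
    have : (fun _ => (1 : ℂ)) ∈ E d := by
      rw [hE, Module.End.mem_maxGenEigenspace]
      exact ⟨1, by rw [pow_one]; simp [hconst]⟩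
    rw [h0, Submodule.mem_bot] at this
    exact one_ne_zero (congrFun this a)
  rw [LinearMap.trace_eq_sum_trace_restrict' hint hfin hAE] at htr
  simp only [htrμ, hk, mul_add, Finset.sum_add_distrib, mul_ite, mul_one, mul_zero] at htr
  rw [Finset.sum_ite_eq' hfin.toFinset (d : ℂ) (fun μ => μ), if_pos hd1] at htr
  rcases Nat.eq_zero_or_pos f with hf0 | hf0
  · subst hf0
    simp only [Nat.cast_zero, zero_mul, mul_zero, Finset.sum_const_zero, add_zero, Nat.cast_eq_zero] at htr
    rw [htr]
  refine dvd_of_isIntegral_natCast_div hf0.ne' ?_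
  have hI : IsIntegral ℤ (∑ μ ∈ hfin.toFinset, μ * (k μ : ℂ)) :=
    IsIntegral.sum _ fun μ hμ => IsIntegral.mul (hroot μ ((Set.Finite.mem_toFinset hfin).1 hμ))
      (isIntegral_algebraMap (R := ℤ) (x := (k μ : ℤ)))
  have hdeq : (d : ℂ) / f = -(∑ μ ∈ hfin.toFinset, μ * (k μ : ℂ)) := by
    have hfz : (f : ℂ) ≠ 0 := Nat.cast_ne_zero.2 hf0.ne'
    rw [div_eq_iff hfz, neg_mul, Finset.sum_mul]
    have : ∀ μ ∈ hfin.toFinset, μ * (k μ : ℂ) * f = μ * (f * k μ) := fun μ _ => by ring
    rw [Finset.sum_congr rfl this]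
    linear_combination htr
  rw [hdeq]
  exact hI.neg

end CfsgLib.PermChar
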