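import Cfsg.Agent.Lib.PermChar.Basic

/-!
Consequences of Frame's divisibility for constituents of equal degree and small rank.
-/

set_option autoImplicit false

open Module MulAction CfsgLib.Char

namespace CfsgLib.PermChar

variable {G : Type*} [Group G] [Fintype G] {Ω : Type*} [MulAction G Ω] [Fintype Ω] [IsPretransitive G Ω]

theorem degree_principal : degree (principalIrr : Cfsg.IrrCharacter G).1 = 1 := by
  have h : (degree (principalIrr : Cfsg.IrrCharacter G).1 : ℂ) = 1 := by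
    rw [IsCharacter.degree_cast (IsIrrCharacter.isCharacter (principalIrr : Cfsg.IrrCharacter G).2),
      principalIrr_apply]
  exact_mod_cast h

open Classical in
theorem sum_nonprincipal_degree (a : Ω) :
    1 + ∑ χ ∈ Finset.univ.erase (principalIrr : Cfsg.IrrCharacter G), mult Ω χ.1 * degree χ.1 = Fintype.card Ω := by
  haveI : Nonempty Ω := ⟨a⟩
  have h := sum_mult_degree (G := G) (Ω := Ω)
  rw [← Finset.add_sum_erase _ _ (Finset.mem_univ (principalIrr : Cfsg.IrrCharacter G)), mult_principal,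
    degree_principal, mul_one] at h
  exact h

open Classical in
theorem sum_nonprincipal_sq (a : Ω) :
    1 + ∑ χ ∈ Finset.univ.erase (principalIrr : Cfsg.IrrCharacter G), mult Ω χ.1 * mult Ω χ.1 =
      Nat.card (orbitRel.Quotient (stabilizer G a) Ω) := by
  haveI : Nonempty Ω := ⟨a⟩
  have h := sum_mult_sq (G := G) a
  rw [← Finset.add_sum_erase _ _ (Finset.mem_univ (principalIrr : Cfsg.IrrCharacter G)), mult_principal] at h
  simpa using h

/-- All non-principal constituents of the same degree: multiplicity-free, and that is every subdegree. -/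
theorem same_degree (a : Ω) {f : ℕ}
    (hf : ∀ χ : Cfsg.IrrCharacter G, χ ≠ principalIrr → mult Ω χ.1 ≠ 0 → degree χ.1 = f) :
    (∀ χ : Cfsg.IrrCharacter G, mult Ω χ.1 ≤ 1) ∧
      ∀ b, b ≠ a → Nat.card (orbit (stabilizer G a) b) = f := by
  classical
  haveI : Nonempty Ω := ⟨a⟩
  set H := stabilizer G a with hH
  haveI : Fintype (orbitRel.Quotient H Ω) := Fintype.ofFinite _
  set I := Finset.univ.erase (principalIrr : Cfsg.IrrCharacter G) with hI
  set q0 : orbitRel.Quotient H Ω := Quotient.mk'' a with hq0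
  have hn : 1 + f * ∑ χ ∈ I, mult Ω χ.1 = Fintype.card Ω := by
    rw [← sum_nonprincipal_degree (G := G) a, Finset.mul_sum]
    congr 1
    refine Finset.sum_congr rfl fun χ hχ => ?_
    by_cases hm : mult Ω χ.1 = 0
    · simp [hm]
    · rw [hf χ (Finset.ne_of_mem_erase hχ) hm, mul_comm]
  have hsize : ∀ y : Ω, Nat.card (orbitRel.Quotient.orbit (Quotient.mk'' y : orbitRel.Quotient H Ω)) =
      Nat.card (orbit H y) := fun y => by rw [orbitRel.Quotient.orbit_mk]
  have hsum : Fintype.card Ω = ∑ q : orbitRel.Quotient H Ω, Nat.card (orbitRel.Quotient.orbit q) := by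
    rw [← Nat.card_eq_fintype_card, Nat.card_congr (selfEquivSigmaOrbits' H Ω), Nat.card_sigma]
  have hzero : Nat.card (orbitRel.Quotient.orbit q0) = 1 := by
    rw [hsize, Nat.card_eq_one_iff_unique]
    refine ⟨⟨fun x y => ?_⟩, ⟨⟨a, mem_orbit_self a⟩⟩⟩
    obtain ⟨-, g, rfl⟩ := x
    obtain ⟨-, g', rfl⟩ := y
    exact Subtype.ext (g.2.trans g'.2.symm)
  have hge : ∀ q ∈ Finset.univ.erase q0, f ≤ Nat.card (orbitRel.Quotient.orbit q) := by
    intro q hq
    obtain ⟨y, rfl⟩ := Quotient.exists_rep q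
    have hy : y ≠ a := fun e => Finset.ne_of_mem_erase hq (by rw [e]; first | rfl | skip)
    have hd := dvd_subdegree (G := G) (f := f) (fun χ h1 h2 => (hf χ h1 h2).symm ▸ dvd_rfl) hy
    rw [show (⟦y⟧ : orbitRel.Quotient H Ω) = Quotient.mk'' y from rfl, hsize]
    haveI : Nonempty (orbit H y) := ⟨⟨y, mem_orbit_self y⟩⟩
    exact Nat.le_of_dvd Nat.card_pos hd
  rw [← Finset.add_sum_erase _ _ (Finset.mem_univ q0), hzero] at hsum
  have hr : (Finset.univ.erase q0).card = ∑ χ ∈ I, mult Ω χ.1 * mult Ω χ.1 := by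
    have h : 1 + ∑ χ ∈ I, mult Ω χ.1 * mult Ω χ.1 = Nat.card (orbitRel.Quotient H Ω) :=
      sum_nonprincipal_sq (G := G) a
    rw [Finset.card_erase_of_mem (Finset.mem_univ _), Finset.card_univ, ← Nat.card_eq_fintype_card]
    omega
  have hlow : (Finset.univ.erase q0).card * f ≤ ∑ q ∈ Finset.univ.erase q0, Nat.card (orbitRel.Quotient.orbit q) := by
    rw [← smul_eq_mul]
    exact Finset.card_nsmul_le_sum _ _ _ hge
  have hsq : ∀ χ ∈ I, mult Ω χ.1 ≤ mult Ω χ.1 * mult Ω χ.1 := fun χ _ => Nat.le_mul_self _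
  have hmm : ∀ χ ∈ I, mult Ω χ.1 ≤ 1 := by
    intro χ hχ
    by_contra hc
    have hfpos : 0 < f := by
      rw [← hf χ (Finset.ne_of_mem_erase hχ) (by omega)]
      exact IsIrrCharacter.degree_pos χ.2
    have hlt : ∑ χ ∈ I, mult Ω χ.1 < ∑ χ ∈ I, mult Ω χ.1 * mult Ω χ.1 :=
      Finset.sum_lt_sum hsq ⟨χ, hχ, by
        calc mult Ω χ.1 = mult Ω χ.1 * 1 := (mul_one _).symm
          _ < mult Ω χ.1 * mult Ω χ.1 := Nat.mul_lt_mul_of_pos_left (by omega) (by omega)⟩
    rw [← hr] at hlt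
    have h1 := Nat.mul_lt_mul_of_pos_left hlt hfpos
    rw [mul_comm f (Finset.univ.erase q0).card] at h1
    omega
  refine ⟨fun χ => ?_, fun b hb => ?_⟩
  · by_cases hχ : χ = principalIrr
    · rw [hχ, mult_principal]
    · exact hmm χ (Finset.mem_erase.2 ⟨hχ, Finset.mem_univ _⟩)
  · have heq : ∑ q ∈ Finset.univ.erase q0, Nat.card (orbitRel.Quotient.orbit q) = ∑ _q ∈ Finset.univ.erase q0, f := by
      rw [Finset.sum_const, smul_eq_mul]
      have e : ∑ χ ∈ I, mult Ω χ.1 * mult Ω χ.1 = ∑ χ ∈ I, mult Ω χ.1 := by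
        refine Finset.sum_congr rfl fun χ hχ => ?_
        have := hmm χ hχ
        interval_cases (mult Ω χ.1) <;> rfl
      rw [hr, e, mul_comm]
      omega
    have hb' : (Quotient.mk'' b : orbitRel.Quotient H Ω) ∈ Finset.univ.erase q0 := by
      refine Finset.mem_erase.2 ⟨fun e => ?_, Finset.mem_univ _⟩
      obtain ⟨g, hg⟩ := orbitRel_apply.1 (Quotient.eq''.1 e)
      exact hb (hg.symm.trans g.2)
    rw [← hsize]
    exact ((Finset.sum_eq_sum_iff_of_le hge).1 heq.symm _ hb').symm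

/-- Rank at most five: multiplicity-free. -/
theorem mult_le_one_of_rank (a : Ω) (hr : Nat.card (orbitRel.Quotient (stabilizer G a) Ω) ≤ 5)
    (χ : Cfsg.IrrCharacter G) : mult Ω χ.1 ≤ 1 := by
  classical
  haveI : Nonempty Ω := ⟨a⟩
  by_cases hχ : χ = principalIrr
  · rw [hχ, mult_principal]
  by_contra hc
  have h := sum_nonprincipal_sq (G := G) a
  rw [← Finset.add_sum_erase _ _ (Finset.mem_erase.2 ⟨hχ, Finset.mem_univ χ⟩)] at h
  have h4 : 4 ≤ mult Ω χ.1 * mult Ω χ.1 := Nat.mul_le_mul (show 2 ≤ mult Ω χ.1 by omega) (show 2 ≤ mult Ω χ.1 by omega)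
  have hrest : ∑ ψ ∈ (Finset.univ.erase (principalIrr : Cfsg.IrrCharacter G)).erase χ, mult Ω ψ.1 * mult Ω ψ.1 = 0 := by
    omega
  have hsame := (same_degree (G := G) a (f := degree χ.1) fun ψ h1 h2 => by
    by_contra hne
    have hψ : ψ ∈ (Finset.univ.erase (principalIrr : Cfsg.IrrCharacter G)).erase χ :=
      Finset.mem_erase.2 ⟨fun e => hne (by rw [e]), Finset.mem_erase.2 ⟨h1, Finset.mem_univ _⟩⟩
    exact h2 (mul_self_eq_zero.1 ((Finset.sum_eq_zero_iff).1 hrest ψ hψ))).1 χ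
  omega

end CfsgLib.PermChar
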