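import Cfsg.Agent.Lib.PermChar.Moments
import Mathlib.FieldTheory.Minpoly.IsIntegrallyClosed
import Mathlib.GroupTheory.GroupAction.Primitive

/-!
Groups of Wielandt type: rank three, degree `2m`, constituents of degrees `m - 1` and `m`.
-/

set_option autoImplicit false

open Module MulAction CfsgLib.Char Polynomial
open scoped ComplexConjugate

namespace CfsgLib.PermChar

theorem exists_int_of_quadratic {m k : ℕ} (hk0 : 0 < k) (hk : k + 1 < 2 * m) {r : ℂ} (hr : IsIntegral ℤ r)
    (hq : ((m : ℂ) - 1) * (2 * m - 1) * r ^ 2 + 2 * k * ((m : ℂ) - 1) * r +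
      ((m + 1) * k ^ 2 - 2 * (m : ℂ) ^ 2 * k) = 0) : ∃ i : ℤ, r = i := by
  have hm2 : 2 ≤ m := by omega
  suffices h : ∃ q : ℚ, r = (q : ℂ) by
    obtain ⟨q, rfl⟩ := h
    obtain ⟨i, hi⟩ := exists_int_of_isIntegral_ratCast hr
    exact ⟨i, by rw [← hi, Rat.cast_intCast]⟩
  set A : ℚ := ((m : ℚ) - 1) * (2 * m - 1) with hA
  set B : ℚ := 2 * k * ((m : ℚ) - 1) with hB
  set Cc : ℚ := (m + 1) * k ^ 2 - 2 * (m : ℚ) ^ 2 * k with hC
  have hq' : (A : ℂ) * r ^ 2 + (B : ℂ) * r + (Cc : ℂ) = 0 := by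
    simp only [hA, hB, hC]
    push_cast
    exact hq
  have hmR : (2 : ℚ) ≤ m := by exact_mod_cast hm2
  have hA0 : A ≠ 0 := by
    rw [hA]
    exact mul_ne_zero (by linarith) (by linarith)
  let Q : ℚ[X] := C A * X ^ 2 + C B * X + C Cc
  have hQ0 : Q ≠ 0 := fun h => hA0 (by simpa [Q, coeff_C] using congrArg (fun P : ℚ[X] => P.coeff 2) h)
  have hQr : aeval r Q = 0 := by
    simpa [Q, eq_ratCast] using hq'
  have hQdeg : Q.natDegree ≤ 2 := natDegree_quadratic_le
  set P := minpoly ℤ r with hP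
  have hmap : minpoly ℚ r = P.map (algebraMap ℤ ℚ) := minpoly.isIntegrallyClosed_eq_field_fractions' ℚ hr
  have hdeg : P.natDegree ≤ 2 := by
    have h1 : (minpoly ℚ r).natDegree ≤ Q.natDegree :=
      natDegree_le_of_dvd (minpoly.dvd ℚ r hQr) hQ0
    rw [hmap, (minpoly.monic hr).natDegree_map] at h1
    exact h1.trans hQdeg
  have hev : (P.coeff 0 : ℂ) + (P.coeff 1 : ℂ) * r + (P.coeff 2 : ℂ) * r ^ 2 = 0 := by
    have h := minpoly.aeval ℤ r
    rw [← hP, aeval_eq_sum_range' (show P.natDegree < 3 by omega)] at h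
    simpa [Finset.sum_range_succ, zsmul_eq_mul] using h
  have hrat : ∀ u w : ℚ, u ≠ 0 → (u : ℂ) * r + (w : ℂ) = 0 → ∃ q : ℚ, r = (q : ℂ) := fun u w hu h => ⟨-w / u, by
    push_cast
    field_simp
    linear_combination h⟩
  rcases Nat.lt_or_ge P.natDegree 2 with hlt | hge
  · have h2 : P.coeff 2 = 0 := coeff_eq_zero_of_natDegree_lt hlt
    have h1 : P.natDegree = 1 := le_antisymm (by omega) (minpoly.natDegree_pos hr)
    have hc1 : P.coeff 1 = 1 := by rw [← h1]; exact minpoly.monic hr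
    refine ⟨-(P.coeff 0 : ℚ), ?_⟩
    rw [h2, hc1] at hev
    push_cast at hev ⊢
    linear_combination hev
  · have hc2 : P.coeff 2 = 1 := by rw [show 2 = P.natDegree by omega]; exact minpoly.monic hr
    rw [hc2] at hev
    push_cast at hev
    by_cases hu : B - A * (P.coeff 1 : ℚ) = 0
    · exfalso
      have h1 : (2 * k : ℚ) = (2 * m - 1) * (P.coeff 1 : ℚ) := by
        have h0 : ((m : ℚ) - 1) * (2 * k - (2 * m - 1) * (P.coeff 1 : ℚ)) = 0 := by
          rw [← hu, hA, hB]; ring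
        rcases mul_eq_zero.1 h0 with h | h <;> linarith
      have h2 : (2 * k : ℤ) = (2 * m - 1) * P.coeff 1 := by exact_mod_cast h1
      have hdvd : ((2 * m - 1 : ℕ) : ℤ) ∣ ((2 * k : ℕ) : ℤ) := ⟨P.coeff 1, by
        push_cast [Nat.cast_sub (show 1 ≤ 2 * m by omega)]; exact h2⟩
      have hcop : Nat.Coprime (2 * m - 1) 2 := by
        rw [Nat.coprime_two_right]; exact ⟨m - 1, by omega⟩
      have := Nat.le_of_dvd hk0 (hcop.dvd_of_dvd_mul_left (Int.natCast_dvd_natCast.1 hdvd))
      omega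
    · refine hrat _ (Cc - A * (P.coeff 0 : ℚ)) hu ?_
      push_cast
      linear_combination hq' - (A : ℂ) * hev

theorem arith {m k : ℕ} {r s : ℤ} (hk2 : 2 ≤ k) (hk3 : k + 3 ≤ 2 * m) (h1 : (k : ℤ) + (m - 1) * r + m * s = 0)
    (h2 : (k : ℤ) ^ 2 + (m - 1) * r ^ 2 + m * s ^ 2 = 2 * m * k) :
    ∃ a : ℕ, 0 < a ∧ m = 2 * a ^ 2 + 2 * a + 1 ∧ (k = a * (2 * a + 1) ∨ k = (a + 1) * (2 * a + 1)) := by
  obtain ⟨t, ht⟩ : ∃ t, t = r + s := ⟨_, rfl⟩
  obtain rfl : s = t - r := by omega
  have hk : (k : ℤ) = r - m * t := by linarith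
  have key : (m : ℤ) * (t * (t + 2)) + t ^ 2 + 2 * r ^ 2 - 4 * r * t - 2 * r = 0 := by
    have h4 : (m : ℤ) * ((m : ℤ) * (t * (t + 2)) + t ^ 2 + 2 * r ^ 2 - 4 * r * t - 2 * r) = 0 := by
      rw [hk] at h2
      linear_combination h2
    rcases mul_eq_zero.1 h4 with h | h
    · omega
    · exact h
  have hkZ : (2 : ℤ) ≤ k ∧ (k : ℤ) + 3 ≤ 2 * m := ⟨by exact_mod_cast hk2, by exact_mod_cast hk3⟩
  have hbig : t ≤ -3 ∨ t = -2 ∨ t = -1 ∨ t = 0 ∨ 1 ≤ t := by omega
  have hfar : ((r : ℤ) ≥ m + 2 ∨ r ≤ -(m : ℤ) - 2) → False := by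
    intro hr
    have hr2 : ((m : ℤ) + 2) * (m + 2) ≤ r ^ 2 := by
      rcases hr with h | h
      · rw [pow_two]; exact mul_le_mul h h (by omega) (by omega)
      · rw [pow_two, ← neg_mul_neg r r]; exact mul_le_mul (by omega) (by omega) (by omega) (by omega)
    have e1 := mul_le_mul_of_nonneg_left hr2 (show (0 : ℤ) ≤ m - 1 by omega)
    nlinarith [e1, mul_nonneg (show (0 : ℤ) ≤ m by omega) (sq_nonneg (t - r)), sq_nonneg (k : ℤ),
      mul_le_mul_of_nonneg_left hkZ.2 (show (0 : ℤ) ≤ 2 * m by omega)]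
  rcases hbig with h | rfl | rfl | rfl | h
  · exfalso
    refine hfar (Or.inr ?_)
    have : (m : ℤ) * t ≤ (m : ℤ) * (-3) := mul_le_mul_of_nonneg_left h (by omega)
    omega
  · exfalso
    have : (r + 1) * (r + 2) = 0 := by linarith
    rcases mul_eq_zero.1 this with h | h <;> omega
  · have hm : (m : ℤ) = 2 * r ^ 2 + 2 * r + 1 := by linarith
    rcases le_or_gt 0 r with hr | hr
    · obtain ⟨a, rfl⟩ := Int.eq_ofNat_of_zero_le hr
      refine ⟨a, ?_, by exact_mod_cast hm, Or.inr ?_⟩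
      · rcases Nat.eq_zero_or_pos a with rfl | h
        · norm_num at hm; omega
        · exact h
      · have : (k : ℤ) = ((a : ℤ) + 1) * (2 * a + 1) := by rw [hk, hm]; ring
        exact_mod_cast this
    · obtain ⟨a, ha⟩ := Int.eq_ofNat_of_zero_le (show 0 ≤ -r - 1 by omega)
      obtain rfl : r = -(a : ℤ) - 1 := by omega
      have hm' : (m : ℤ) = 2 * (a : ℤ) ^ 2 + 2 * a + 1 := by rw [hm]; ring
      refine ⟨a, ?_, by exact_mod_cast hm', Or.inl ?_⟩
      · rcases Nat.eq_zero_or_pos a with rfl | h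
        · norm_num at hm'; omega
        · exact h
      · have : (k : ℤ) = (a : ℤ) * (2 * a + 1) := by rw [hk, hm']; ring
        exact_mod_cast this
  · exfalso
    have h0 : r * (r - 1) = 0 := by linarith
    rcases mul_eq_zero.1 h0 with h | h <;> omega
  · exfalso
    refine hfar (Or.inl ?_)
    have : (m : ℤ) * 1 ≤ (m : ℤ) * t := mul_le_mul_of_nonneg_left h (by omega)
    omega

variable {G : Type*} [Group G] [Fintype G] {Ω : Type*} [MulAction G Ω] [Fintype Ω]

omit [Fintype G] in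
/-- In rank three on at least four points every non-trivial suborbit has at least two points. -/
theorem two_le_suborbit (hprim : IsPreprimitive G Ω) (hn : 4 ≤ Fintype.card Ω) (a b : Ω) (hab : b ≠ a)
    (hr : Nat.card (orbitRel.Quotient (stabilizer G a) Ω) = 3) : 2 ≤ Nat.card (orbit (stabilizer G a) b) := by
  classical
  haveI := hprim
  by_contra hc
  haveI : Nonempty (orbit (stabilizer G a) b) := ⟨⟨b, mem_orbit_self b⟩⟩
  have h1 : Nat.card (orbit (stabilizer G a) b) = 1 := by
    have := Nat.card_pos (α := orbit (stabilizer G a) b)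
    omega
  have hfix : ∀ h : stabilizer G a, h • b = b := fun h =>
    congrArg Subtype.val ((Nat.card_eq_one_iff_unique.1 h1).1.elim ⟨h • b, mem_orbit b h⟩ ⟨b, mem_orbit_self b⟩)
  haveI : Nontrivial Ω := ⟨⟨b, a, hab⟩⟩
  have hle : stabilizer G a ≤ stabilizer G b := fun g hg => hfix ⟨g, hg⟩
  have hmax := IsPreprimitive.isCoatom_stabilizer_of_isPreprimitive (G := G) (X := Ω) a
  have hne : stabilizer G b ≠ ⊤ := fun e => by
    obtain ⟨g, hg⟩ := exists_smul_eq G b a
    have hgb : g • b = b := by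
      have : g ∈ stabilizer G b := e ▸ Subgroup.mem_top g
      exact this
    exact hab (hgb.symm.trans hg)
  have heq : stabilizer G b = stabilizer G a := by
    rcases lt_or_eq_of_le hle with h | h
    · exact absurd (hmax.2 _ h) hne
    · exact h.symm
  obtain ⟨g, hg⟩ := exists_smul_eq G a b
  have hnorm : g ∈ Subgroup.normalizer ((stabilizer G a : Subgroup G) : Set G) := by
    rw [Subgroup.mem_normalizer_iff]
    intro h
    conv_rhs => rw [← heq]
    simp only [mem_stabilizer_iff, mul_smul]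
    rw [show g⁻¹ • b = a by rw [inv_smul_eq_iff, hg]]
    exact ⟨fun e => by rw [e, hg], fun e => by rw [← hg] at e; exact MulAction.injective g e⟩
  have htop : Subgroup.normalizer ((stabilizer G a : Subgroup G) : Set G) = ⊤ := by
    apply hmax.2
    refine lt_of_le_of_ne Subgroup.le_normalizer fun e => ?_
    rw [← e, mem_stabilizer_iff, hg] at hnorm
    exact hab hnorm
  have hall : ∀ (h : stabilizer G a) (y : Ω), h • y = y := by
    intro h y
    obtain ⟨u, rfl⟩ := exists_smul_eq G a y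
    have hu : u⁻¹ ∈ Subgroup.normalizer ((stabilizer G a : Subgroup G) : Set G) := htop ▸ Subgroup.mem_top _
    have h3 := (Subgroup.mem_normalizer_iff.1 hu (h : G)).1 h.2
    rw [mem_stabilizer_iff, mul_smul, mul_smul, inv_inv, inv_smul_eq_iff] at h3
    exact h3
  have hinj : Function.Injective (fun y : Ω => (Quotient.mk'' y : orbitRel.Quotient (stabilizer G a) Ω)) := by
    intro y y' e
    obtain ⟨h, hh⟩ := orbitRel_apply.1 (Quotient.eq''.1 e)
    exact hh.symm.trans (hall h y')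
  have := Nat.card_le_card_of_injective _ hinj
  rw [hr, Nat.card_eq_fintype_card] at this
  omega

/-- **Groups of Wielandt type**. -/
theorem wielandt_type (hprim : IsPreprimitive G Ω) {m : ℕ} (hm : Fintype.card Ω = 2 * m) (a₀ : Ω)
    (hrank : Nat.card (orbitRel.Quotient (stabilizer G a₀) Ω) = 3) {χ₁ χ₂ : G → ℂ}
    (h₁ : Cfsg.IsIrrCharacter G χ₁) (h₂ : Cfsg.IsIrrCharacter G χ₂)
    (hπ : (fun g : G => (Nat.card (fixedBy Ω g) : ℂ)) = fun g => 1 + χ₁ g + χ₂ g)
    (hd₁ : χ₁ 1 = (m : ℂ) - 1) (hd₂ : χ₂ 1 = m) :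
    ∃ a : ℕ, 0 < a ∧ m = 2 * a ^ 2 + 2 * a + 1 ∧ ∀ b : Ω, b ≠ a₀ →
      Nat.card (orbit (stabilizer G a₀) b) = a * (2 * a + 1) ∨
        Nat.card (orbit (stabilizer G a₀) b) = (a + 1) * (2 * a + 1) := by
  classical
  haveI : IsPretransitive G Ω := hprim.toIsPretransitive
  haveI : Nonempty Ω := ⟨a₀⟩
  obtain ⟨d₁, hd₁'⟩ := IsIrrCharacter.exists_degree h₁
  have hm2 : 2 ≤ m := by
    have h0 := IsIrrCharacter.apply_one_ne_zero h₁
    have h0' := IsIrrCharacter.apply_one_ne_zero h₂
    rcases m with _ | _ | m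
    · simp [hd₂] at h0'
    · simp [hd₁] at h0
    · omega
  set P : Cfsg.IrrCharacter G := principalIrr with hPdef
  set X₁ : Cfsg.IrrCharacter G := ⟨χ₁, h₁⟩ with hX₁
  set X₂ : Cfsg.IrrCharacter G := ⟨χ₂, h₂⟩ with hX₂
  have hP : P.1 = fun _ => (1 : ℂ) := funext fun g => principalIrr_apply g
  have hpi : piFun G Ω = P.1 + χ₁ + χ₂ := by
    rw [hP]; exact hπ
  have h12 : χ₁ ≠ χ₂ := fun e => by
    rw [e, hd₂] at hd₁
    exact one_ne_zero (α := ℂ) (by linear_combination hd₁)
  have hP2 : P.1 ≠ χ₂ := fun e => by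
    have := congrFun e 1
    rw [hP] at this
    dsimp only at this
    rw [hd₂] at this
    have : (m : ℕ) = 1 := by exact_mod_cast this.symm
    omega
  have hP1 : P.1 ≠ χ₁ := fun e => by
    have h := mult_principal (G := G) (Ω := Ω)
    have h' := cast_mult (Ω := Ω) P.2
    rw [h, hpi, classInner_add_left, classInner_add_left, classInner_irr_self P.2, ← e,
      classInner_irr_self P.2, classInner_irr_of_ne h₂ P.2 (Ne.symm hP2)] at h'
    norm_num at h'
  have hPX1 : P ≠ X₁ := fun e => hP1 (congrArg Subtype.val e)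
  have hPX2 : P ≠ X₂ := fun e => hP2 (congrArg Subtype.val e)
  have hX12 : X₁ ≠ X₂ := fun e => h12 (congrArg Subtype.val e)
  have hmult : ∀ χ : Cfsg.IrrCharacter G, mult Ω χ.1 = if χ ∈ ({P, X₁, X₂} : Finset _) then 1 else 0 := by
    intro χ
    have h := cast_mult (Ω := Ω) χ.2
    rw [hpi, classInner_add_left, classInner_add_left, show P.1 = (P : Cfsg.IrrCharacter G).1 from rfl,
      classInner_irrCharacter P χ, classInner_irrCharacter X₁ χ, classInner_irrCharacter X₂ χ] at h
    simp only [Finset.mem_insert, Finset.mem_singleton]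
    by_cases e0 : χ = P
    · subst e0
      simp only [if_neg hPX1.symm, if_neg hPX2.symm, add_zero, true_or, if_true] at h ⊢
      exact_mod_cast h
    by_cases e1 : χ = X₁
    · subst e1
      simp only [if_neg hPX1, if_neg hX12.symm, add_zero, zero_add, true_or, or_true, if_true] at h ⊢
      exact_mod_cast h
    by_cases e2 : χ = X₂
    · subst e2
      simp only [if_neg hPX2, if_neg hX12, add_zero, zero_add, or_true, if_true] at h ⊢
      exact_mod_cast h
    simp only [if_neg (Ne.symm e0), if_neg (Ne.symm e1), if_neg (Ne.symm e2), add_zero] at h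
    rw [if_neg (by tauto)]
    exact_mod_cast h
  have hreal : ∀ χ : Cfsg.IrrCharacter G, Cfsg.classInner (piFun G Ω) χ.1 ≠ 0 → ∀ g, conj (χ.1 g) = χ.1 g := by
    intro χ hχ g
    set Y : Cfsg.IrrCharacter G := ⟨fun g => conj (χ.1 g), IsIrrCharacter.conj_apply' χ.2⟩ with hY
    have hinner : Cfsg.classInner (piFun G Ω) Y.1 = conj (Cfsg.classInner (piFun G Ω) χ.1) := by
      simp only [Cfsg.classInner, map_mul, map_inv₀, map_natCast, map_sum, hY, piFun]
    have hmem : ∀ Z : Cfsg.IrrCharacter G, Cfsg.classInner (piFun G Ω) Z.1 ≠ 0 → Z = P ∨ Z = X₁ ∨ Z = X₂ := by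
      intro Z hZ
      rw [classInner_ne_zero_iff Z.2, hmult] at hZ
      by_contra hn
      simp [Finset.mem_insert, hn] at hZ
    have e : Y = χ := by
      have hYdeg : Y.1 1 = χ.1 1 := by
        show conj (χ.1 1) = χ.1 1
        obtain ⟨d, -, hd⟩ := IsIrrCharacter.exists_degree χ.2
        rw [hd, map_natCast]
      have hYne : Cfsg.classInner (piFun G Ω) Y.1 ≠ 0 := by
        rw [hinner]; exact (_root_.map_ne_zero _).2 hχ
      have hconjP : ∀ Z : Cfsg.IrrCharacter G, Z = P → ∀ x, conj (Z.1 x) = Z.1 x := by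
        rintro Z rfl x
        rw [hP]; simp
      rcases hmem χ hχ with hc | hc | hc
      · exact Subtype.ext (funext fun x => hconjP χ hc x)
      all_goals
        rcases hmem Y hYne with hy | hy | hy
        · exfalso
          have hχP : χ = P := Subtype.ext (funext fun x => by
            rw [← Complex.conj_conj (χ.1 x), show conj (χ.1 x) = Y.1 x from rfl, hconjP Y hy x, hy])
          first
            | exact hPX1 (hχP.symm.trans hc)
            | exact hPX2 (hχP.symm.trans hc)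
        all_goals
          first
            | exact hy.trans hc.symm
            | exfalso
              rw [hc, hy] at hYdeg
              simp only [hX₁, hX₂, hd₁, hd₂] at hYdeg
              first
                | exact one_ne_zero (α := ℂ) (by linear_combination hYdeg)
                | exact one_ne_zero (α := ℂ) (by linear_combination -hYdeg)
    exact congrFun (congrArg Subtype.val e) g
  have hmf : Mf (Cfsg.permRep ℂ G Ω) := fun χ => by
    rw [← piFun_eq_character, ← cast_mult χ.2, hmult]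
    split_ifs <;> simp
  have hsp := selfPaired_of_mf_real hmf hreal
  have hle1 : ∀ χ : Cfsg.IrrCharacter G, mult Ω χ.1 ≤ 1 := fun χ => by rw [hmult]; split_ifs <;> omega
  have hdeg1 : (degree χ₁ : ℂ) = (m : ℂ) - 1 := by
    rw [IsCharacter.degree_cast (IsIrrCharacter.isCharacter h₁), hd₁]
  have hdeg2 : (degree χ₂ : ℂ) = (m : ℂ) := by
    rw [IsCharacter.degree_cast (IsIrrCharacter.isCharacter h₂), hd₂]
  have hdegP : (degree P.1 : ℂ) = 1 := by
    rw [IsCharacter.degree_cast (IsIrrCharacter.isCharacter P.2), hP]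
  have hn4 : 4 ≤ Fintype.card Ω := by omega
  -- the suborbit lengths
  set H := stabilizer G a₀ with hH
  haveI : Fintype (orbitRel.Quotient H Ω) := Fintype.ofFinite _
  have hsize : ∀ y : Ω, Nat.card (orbitRel.Quotient.orbit (Quotient.mk'' y : orbitRel.Quotient H Ω)) =
      Nat.card (orbit H y) := fun y => by rw [orbitRel.Quotient.orbit_mk]
  have hub : ∀ b, b ≠ a₀ → Nat.card (orbit H b) + 3 ≤ 2 * m := by
    intro b hb
    set q0 : orbitRel.Quotient H Ω := Quotient.mk'' a₀
    set q1 : orbitRel.Quotient H Ω := Quotient.mk'' b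
    have hq01 : q0 ≠ q1 := fun e => by
      obtain ⟨g, hg⟩ := orbitRel_apply.1 (Quotient.eq''.1 e.symm)
      exact hb (hg.symm.trans g.2)
    have hsum : Fintype.card Ω = ∑ q : orbitRel.Quotient H Ω, Nat.card (orbitRel.Quotient.orbit q) := by
      rw [← Nat.card_eq_fintype_card, Nat.card_congr (selfEquivSigmaOrbits' H Ω), Nat.card_sigma]
    have hz : Nat.card (orbitRel.Quotient.orbit q0) = 1 := by
      rw [hsize, Nat.card_eq_one_iff_unique]
      refine ⟨⟨fun x y => ?_⟩, ⟨⟨a₀, mem_orbit_self a₀⟩⟩⟩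
      obtain ⟨-, g, rfl⟩ := x
      obtain ⟨-, g', rfl⟩ := y
      exact Subtype.ext (g.2.trans g'.2.symm)
    have hc : ((Finset.univ.erase q0).erase q1).card = 1 := by
      rw [Finset.card_erase_of_mem (Finset.mem_erase.2 ⟨hq01.symm, Finset.mem_univ _⟩),
        Finset.card_erase_of_mem (Finset.mem_univ _), Finset.card_univ, ← Nat.card_eq_fintype_card, hrank]
    obtain ⟨q2, hq2⟩ := Finset.card_eq_one.1 hc
    have hq2m : q2 ∈ (Finset.univ.erase q0).erase q1 := by rw [hq2]; exact Finset.mem_singleton_self _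
    rw [← Finset.add_sum_erase _ _ (Finset.mem_univ q0),
      ← Finset.add_sum_erase _ _ (Finset.mem_erase.2 ⟨hq01.symm, Finset.mem_univ q1⟩), hq2, Finset.sum_singleton,
      hz, hsize b] at hsum
    obtain ⟨c, rfl⟩ := Quotient.exists_rep q2
    have hca : c ≠ a₀ := fun e => Finset.ne_of_mem_erase (Finset.mem_of_mem_erase hq2m) (by rw [e]; first | rfl | skip)
    have h2 : 2 ≤ Nat.card (orbit H c) := two_le_suborbit hprim hn4 a₀ c hca hrank
    rw [show (⟦c⟧ : orbitRel.Quotient H Ω) = Quotient.mk'' c from rfl, hsize] at hsum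
    omega
  have main : ∀ b, b ≠ a₀ → ∃ a : ℕ, 0 < a ∧ m = 2 * a ^ 2 + 2 * a + 1 ∧
      (Nat.card (orbit H b) = a * (2 * a + 1) ∨ Nat.card (orbit H b) = (a + 1) * (2 * a + 1)) := by
    intro b hb
    obtain ⟨ev, hint, hev0, hm1, hm2'⟩ := exists_moments (G := G) hb hsp hle1
    set k := Nat.card (orbit H b) with hk
    have hk2 : 2 ≤ k := two_le_suborbit hprim hn4 a₀ b hb hrank
    have hk3 := hub b hb
    simp only [hmult, Nat.cast_ite, Nat.cast_one, Nat.cast_zero, ite_mul, zero_mul, one_mul, Finset.sum_ite_mem,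
      Finset.univ_inter, Finset.sum_insert (show P ∉ ({X₁, X₂} : Finset _) by simp [hPX1, hPX2]),
      Finset.sum_insert (show X₁ ∉ ({X₂} : Finset _) by simp [hX12]), Finset.sum_singleton] at hm1 hm2'
    rw [show degree X₁.1 = degree χ₁ from rfl, show degree X₂.1 = degree χ₂ from rfl, hdeg1, hdeg2, hdegP,
      hev0] at hm1 hm2'
    rw [hm] at hm2'
    push_cast at hm2'
    set r := ev X₁
    set s := ev X₂
    have hm0 : (m : ℂ) ≠ 0 := Nat.cast_ne_zero.2 (by omega)
    obtain ⟨i, hi⟩ := exists_int_of_quadratic (m := m) (k := k) (r := r) (by omega) (by omega) (hint X₁) (by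
      linear_combination (m : ℂ) * hm2' + (-(m : ℂ) * s + (k : ℂ) + ((m : ℂ) - 1) * r) * hm1)
    obtain ⟨j, hj⟩ : ∃ j : ℤ, s = j := by
      obtain ⟨j, hj⟩ := exists_int_of_isIntegral_ratCast (q := (-(k : ℚ) - ((m : ℚ) - 1) * i) / m) (by
        convert hint X₂ using 1
        push_cast
        rw [← hi, div_eq_iff hm0]
        linear_combination -hm1)
      refine ⟨j, ?_⟩
      rw [← mul_right_inj' hm0, show (j : ℂ) = (((j : ℚ)) : ℂ) by norm_cast, hj]
      push_cast
      rw [← hi, mul_div_cancel₀ _ hm0]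
      linear_combination hm1
    rw [hi, hj] at hm1 hm2'
    refine arith (r := i) (s := j) hk2 hk3 ?_ ?_
    · have e : (((k : ℤ) + ((m : ℤ) - 1) * i + (m : ℤ) * j : ℤ) : ℂ) = ((0 : ℤ) : ℂ) := by
        push_cast; linear_combination hm1
      exact_mod_cast e
    · have e : (((k : ℤ) ^ 2 + ((m : ℤ) - 1) * i ^ 2 + (m : ℤ) * j ^ 2 : ℤ) : ℂ) = ((2 * m * k : ℤ) : ℂ) := by
        push_cast; linear_combination hm2'
      exact_mod_cast e
  obtain ⟨b0, hb0⟩ := Fintype.exists_ne_of_one_lt_card (show 1 < Fintype.card Ω by omega) a₀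
  obtain ⟨a, ha, hma, -⟩ := main b0 hb0
  refine ⟨a, ha, hma, fun b hb => ?_⟩
  obtain ⟨a', -, hma', h⟩ := main b hb
  obtain rfl : a = a' := by
    rcases Nat.lt_trichotomy a a' with hlt | he | hgt
    · exfalso; nlinarith
    · exact he
    · exfalso; nlinarith
  exact h

end CfsgLib.PermChar
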