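import Cfsg.Agent.Lib.PermChar.Basic
import Cfsg.Agent.Lib.Char.Conj
import Mathlib.LinearAlgebra.Projection

/-!
The centraliser ring of a representation: commutative exactly when the character is multiplicity-free;
symmetric orbitals.
-/

set_option autoImplicit false

open Module CfsgLib.Char
open scoped ComplexConjugate

namespace CfsgLib.PermChar

variable {G : Type*} [Group G] [Fintype G] {V : Type*} [AddCommGroup V] [Module ℂ V] [FiniteDimensional ℂ V]

/-- Multiplicity-free representation. -/
def Mf (ρ : Representation ℂ G V) : Prop :=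
  ∀ χ : Cfsg.IrrCharacter G, Cfsg.classInner ρ.character χ.1 = 0 ∨ Cfsg.classInner ρ.character χ.1 = 1

/-- The endomorphisms commuting with the representation commute with each other. -/
def CommCentralizer (ρ : Representation ℂ G V) : Prop :=
  ∀ S T : Module.End ℂ V, (∀ g, S * ρ g = ρ g * S) → (∀ g, T * ρ g = ρ g * T) → S * T = T * S

omit [Fintype G] [FiniteDimensional ℂ V] in
theorem projection_commute (ρ : Representation ℂ G V) (W W' : Subrepresentation ρ)
    (h : IsCompl W.toSubmodule W'.toSubmodule) (g : G) (v : V) :
    Submodule.projectionOnto W.toSubmodule W'.toSubmodule h (ρ g v) =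
      W.toRepresentation g (Submodule.projectionOnto W.toSubmodule W'.toSubmodule h v) := by
  obtain ⟨a, b, ha, hb, rfl⟩ := Submodule.codisjoint_iff_exists_add_eq.mp h.codisjoint v
  rw [map_add, map_add, map_add,
    Submodule.projectionOnto_apply_left h ⟨_, W.apply_mem_toSubmodule g ha⟩,
    Submodule.projectionOnto_apply_right h ⟨_, W'.apply_mem_toSubmodule g hb⟩,
    Submodule.projectionOnto_apply_left h ⟨a, ha⟩, Submodule.projectionOnto_apply_right h ⟨b, hb⟩,
    add_zero, add_zero]
  rfl

omit [Fintype G] [FiniteDimensional ℂ V] in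
/-- An endomorphism of a summand, extended by zero, still commutes. -/
theorem extend_commute (ρ : Representation ℂ G V) (W W' : Subrepresentation ρ)
    (h : IsCompl W.toSubmodule W'.toSubmodule) (U : Subrepresentation ρ) (S : W.toSubmodule →ₗ[ℂ] U.toSubmodule)
    (hS : ∀ g x, S (W.toRepresentation g x) = U.toRepresentation g (S x)) (g : G) :
    (U.toSubmodule.subtype ∘ₗ S ∘ₗ Submodule.projectionOnto W.toSubmodule W'.toSubmodule h : Module.End ℂ V) * ρ g =
      ρ g * (U.toSubmodule.subtype ∘ₗ S ∘ₗ Submodule.projectionOnto W.toSubmodule W'.toSubmodule h) := by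
  apply LinearMap.ext
  intro v
  simp only [Module.End.mul_apply, LinearMap.comp_apply, projection_commute ρ W W' h g v, hS]
  rfl

theorem CommCentralizer.part {ρ : Representation ℂ G V} (hc : CommCentralizer ρ) (W W' : Subrepresentation ρ)
    (h : IsCompl W.toSubmodule W'.toSubmodule) : CommCentralizer W.toRepresentation := by
  intro S T hS hT
  have e := hc _ _ (extend_commute ρ W W' h W S (fun g x => LinearMap.congr_fun (hS g) x))
    (extend_commute ρ W W' h W T (fun g x => LinearMap.congr_fun (hT g) x))
  apply LinearMap.ext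
  intro x
  have e' := LinearMap.congr_fun e (x : V)
  simp only [Module.End.mul_apply, LinearMap.comp_apply, Submodule.subtype_apply,
    Submodule.projectionOnto_apply_left] at e'
  exact Subtype.ext e'

theorem CommCentralizer.disjoint {ρ : Representation ℂ G V} (hc : CommCentralizer ρ) (W W' : Subrepresentation ρ)
    (h : IsCompl W.toSubmodule W'.toSubmodule) :
    Cfsg.classInner W.toRepresentation.character W'.toRepresentation.character = 0 := by
  rw [classInner_character, Nat.cast_eq_zero]
  haveI : Subsingleton (Representation.IntertwiningMap W'.toRepresentation W.toRepresentation) := by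
    refine subsingleton_of_forall_eq 0 fun T => ?_
    have e := hc _ _ (extend_commute ρ W' W h.symm W T.toLinearMap (fun g x => LinearMap.congr_fun (T.isIntertwining' g) x))
      (extend_commute ρ W W' h W LinearMap.id (fun g x => rfl))
    apply Representation.IntertwiningMap.ext
    apply LinearMap.ext
    intro x
    have e' := LinearMap.congr_fun e (x : V)
    simp only [Module.End.mul_apply, LinearMap.comp_apply, Submodule.subtype_apply, LinearMap.id_apply,
      Submodule.projectionOnto_apply_left, Submodule.projectionOnto_apply_right, Submodule.coe_zero,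
      map_zero] at e'
    exact Subtype.ext e'.symm
  exact finrank_zero_of_subsingleton

omit [Fintype G] [FiniteDimensional ℂ V] in
/-- With disjoint summands a commuting endomorphism preserves the first one. -/
theorem mapsTo_of_disjoint (ρ : Representation ℂ G V) (W W' : Subrepresentation ρ)
    (h : IsCompl W.toSubmodule W'.toSubmodule)
    (h0 : ∀ T : Representation.IntertwiningMap W.toRepresentation W'.toRepresentation, T = 0)
    (S : Module.End ℂ V) (hS : ∀ g, S * ρ g = ρ g * S) : ∀ x ∈ W.toSubmodule, S x ∈ W.toSubmodule := by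
  intro x hx
  let T : Representation.IntertwiningMap W.toRepresentation W'.toRepresentation :=
    ⟨Submodule.projectionOnto W'.toSubmodule W.toSubmodule h.symm ∘ₗ S ∘ₗ W.toSubmodule.subtype, fun g => by
      apply LinearMap.ext
      intro y
      show Submodule.projectionOnto W'.toSubmodule W.toSubmodule h.symm (S (ρ g (y : V))) = _
      rw [show S (ρ g (y : V)) = ρ g (S (y : V)) from LinearMap.congr_fun (hS g) (y : V),
        projection_commute ρ W' W h.symm g]
      rfl⟩
  have hT : Submodule.projectionOnto W'.toSubmodule W.toSubmodule h.symm (S x) = 0 := by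
    have := congrArg (fun F => F.toLinearMap ⟨x, hx⟩) (h0 T)
    exact this
  obtain ⟨a, b, ha, hb, hab⟩ := Submodule.codisjoint_iff_exists_add_eq.mp h.codisjoint (S x)
  rw [← hab, map_add, Submodule.projectionOnto_apply_right h.symm ⟨a, ha⟩,
    Submodule.projectionOnto_apply_left h.symm ⟨b, hb⟩, zero_add] at hT
  rw [← hab, show b = 0 from congrArg Subtype.val hT, add_zero]
  exact ha

theorem intertwining_eq_zero {W : Type*} [AddCommGroup W] [Module ℂ W] [FiniteDimensional ℂ W]
    (ρ : Representation ℂ G V) (σ : Representation ℂ G W)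
    (h : Cfsg.classInner ρ.character σ.character = 0) (T : Representation.IntertwiningMap σ ρ) : T = 0 := by
  rw [classInner_character, Nat.cast_eq_zero] at h
  by_contra hT
  haveI : Nontrivial (Representation.IntertwiningMap σ ρ) := ⟨⟨T, 0, hT⟩⟩
  exact (Module.finrank_pos (R := ℂ) (M := Representation.IntertwiningMap σ ρ)).ne' h

theorem CommCentralizer.of_parts {ρ : Representation ℂ G V} (W W' : Subrepresentation ρ)
    (h : IsCompl W.toSubmodule W'.toSubmodule) (hW : CommCentralizer W.toRepresentation)
    (hW' : CommCentralizer W'.toRepresentation)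
    (h0 : Cfsg.classInner W.toRepresentation.character W'.toRepresentation.character = 0) : CommCentralizer ρ := by
  intro S T hS hT
  have h0' : Cfsg.classInner W'.toRepresentation.character W.toRepresentation.character = 0 := by
    rw [← classInner_conj_symm, h0, map_zero]
  have hm : ∀ R : Module.End ℂ V, (∀ g, R * ρ g = ρ g * R) →
      (∀ x ∈ W.toSubmodule, R x ∈ W.toSubmodule) ∧ ∀ x ∈ W'.toSubmodule, R x ∈ W'.toSubmodule := fun R hR =>
    ⟨mapsTo_of_disjoint ρ W W' h (intertwining_eq_zero _ _ h0') R hR,
      mapsTo_of_disjoint ρ W' W h.symm (intertwining_eq_zero _ _ h0) R hR⟩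
  have hpart : ∀ (U : Subrepresentation ρ), CommCentralizer U.toRepresentation →
      (∀ R : Module.End ℂ V, (∀ g, R * ρ g = ρ g * R) → ∀ x ∈ U.toSubmodule, R x ∈ U.toSubmodule) →
      ∀ x ∈ U.toSubmodule, S (T x) = T (S x) := by
    intro U hU hmU x hx
    have e := hU (S.restrict (hmU S hS)) (T.restrict (hmU T hT))
      (fun g => LinearMap.ext fun y => Subtype.ext (LinearMap.congr_fun (hS g) (y : V)))
      (fun g => LinearMap.ext fun y => Subtype.ext (LinearMap.congr_fun (hT g) (y : V)))
    exact congrArg Subtype.val (LinearMap.congr_fun e ⟨x, hx⟩)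
  apply LinearMap.ext
  intro v
  obtain ⟨a, b, ha, hb, rfl⟩ := Submodule.codisjoint_iff_exists_add_eq.mp h.codisjoint v
  simp only [Module.End.mul_apply, map_add,
    hpart W hW (fun R hR => (hm R hR).1) a ha, hpart W' hW' (fun R hR => (hm R hR).2) b hb]

theorem classInner_eq_zero_iff_of_characters {ψ ψ' : G → ℂ} (h : Cfsg.IsCharacter G ψ) (h' : Cfsg.IsCharacter G ψ') :
    Cfsg.classInner ψ ψ' = 0 ↔
      ∀ χ : Cfsg.IrrCharacter G, Cfsg.classInner ψ χ.1 = 0 ∨ Cfsg.classInner ψ' χ.1 = 0 := by
  choose m hm using fun χ : Cfsg.IrrCharacter G => IsCharacter.exists_nat_classInner h χ.2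
  choose m' hm' using fun χ : Cfsg.IrrCharacter G => IsCharacter.exists_nat_classInner h' χ.2
  have e : Cfsg.classInner ψ ψ' = ((∑ χ, m χ * m' χ : ℕ) : ℂ) := by
    conv_lhs => rw [IsCharacter.eq_sum_classInner h, IsCharacter.eq_sum_classInner h']
    rw [classInner_sum_smul_sum_smul]
    push_cast
    exact Finset.sum_congr rfl fun χ _ => by rw [hm, hm', map_natCast]
  rw [e, Nat.cast_eq_zero, Finset.sum_eq_zero_iff]
  refine forall_congr' fun χ => ?_
  simp only [Finset.mem_univ, forall_const, mul_eq_zero, hm, hm', Nat.cast_eq_zero]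

/-- Commutative centraliser ring if and only if multiplicity-free. -/
theorem commCentralizer_iff_mf (ρ : Representation ℂ G V) : CommCentralizer ρ ↔ Mf ρ := by
  induction hn : finrank ℂ V using Nat.strong_induction_on generalizing V with
  | _ n ih =>
    rcases trichotomy ρ with hs | hirr | ⟨W, W', hc, hW, hW'⟩
    · refine iff_of_true (fun S T _ _ => Subsingleton.elim _ _) (fun χ => Or.inl ?_)
      have e : ρ.character = 0 := by
        funext g
        simp [Representation.character, Subsingleton.elim (ρ g) 0]
      rw [e, classInner_zero_left]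
    · refine iff_of_true (fun S T hS hT => ?_) (fun χ => ?_)
      · obtain ⟨c, rfl⟩ := exists_scalar_of_commute ρ S hS
        obtain ⟨d, rfl⟩ := exists_scalar_of_commute ρ T hT
        exact ((Commute.one_left (1 : Module.End ℂ V)).smul_left c).smul_right d |>.eq
      · by_cases e : ρ.character = χ.1
        · exact Or.inr (by rw [e, classInner_irr_self χ.2])
        · exact Or.inl (classInner_irr_of_ne (isIrrCharacter_character ρ) χ.2 e)
    · have hψ : Cfsg.IsCharacter G W.toRepresentation.character := isCharacter_character _
      have hψ' : Cfsg.IsCharacter G W'.toRepresentation.character := isCharacter_character _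
      have i1 := ih _ (hn ▸ hW) W.toRepresentation rfl
      have i2 := ih _ (hn ▸ hW') W'.toRepresentation rfl
      have hparts : CommCentralizer ρ ↔ CommCentralizer W.toRepresentation ∧ CommCentralizer W'.toRepresentation ∧
          Cfsg.classInner W.toRepresentation.character W'.toRepresentation.character = 0 :=
        ⟨fun h => ⟨h.part W W' hc, h.part W' W hc.symm, h.disjoint W W' hc⟩,
          fun h => CommCentralizer.of_parts W W' hc h.1 h.2.1 h.2.2⟩
      rw [hparts, i1, i2, classInner_eq_zero_iff_of_characters hψ hψ']
      simp only [Mf, character_eq_add ρ W W' hc, classInner_add_left]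
      constructor
      · rintro ⟨h1, h2, h3⟩ χ
        rcases h3 χ with h | h <;> simp only [h, zero_add, add_zero]
        · exact h2 χ
        · exact h1 χ
      · intro h
        have key : ∀ χ : Cfsg.IrrCharacter G, ∃ x y : ℕ,
            Cfsg.classInner W.toRepresentation.character χ.1 = (x : ℂ) ∧
              Cfsg.classInner W'.toRepresentation.character χ.1 = (y : ℂ) ∧ x + y ≤ 1 := by
          intro χ
          obtain ⟨x, hx⟩ := IsCharacter.exists_nat_classInner hψ χ.2
          obtain ⟨y, hy⟩ := IsCharacter.exists_nat_classInner hψ' χ.2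
          refine ⟨x, y, hx, hy, ?_⟩
          rcases h χ with e | e <;> rw [hx, hy] at e
          · have : x + y = 0 := by exact_mod_cast e
            omega
          · have : x + y = 1 := by exact_mod_cast e
            omega
        refine ⟨fun χ => ?_, fun χ => ?_, fun χ => ?_⟩ <;> obtain ⟨x, y, hx, hy, hxy⟩ := key χ <;>
          simp only [hx, hy, Nat.cast_eq_zero, Nat.cast_eq_one] <;> omega

/-- The operator of a class function orthogonal to the character vanishes. -/
theorem opOfFun_conj_eq_zero (ρ : Representation ℂ G V) {χ : G → ℂ} (hχ : Cfsg.IsIrrCharacter G χ)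
    (h : Cfsg.classInner ρ.character χ = 0) : opOfFun ρ (fun g => conj (χ g)) = 0 := by
  have hf : Cfsg.IsClassFunction G (fun g => conj (χ g)) := fun g k =>
    congrArg conj (IsIrrCharacter.isClassFunction hχ g k)
  induction hn : finrank ℂ V using Nat.strong_induction_on generalizing V with
  | _ n ih =>
    rcases trichotomy ρ with hs | hirr | ⟨W, W', hc, hW, hW'⟩
    · exact Subsingleton.elim _ _
    · have e : ∑ g, conj (χ g) * ρ.character g = 0 := by
        rw [Cfsg.classInner, mul_eq_zero] at h
        rcases h with h | h
        · exact absurd h (inv_ne_zero (Nat.cast_ne_zero.2 Nat.card_pos.ne'))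
        · rw [← h]
          exact Finset.sum_congr rfl fun g _ => mul_comm _ _
      rw [opOfFun_irreducible ρ hf, e, zero_div, zero_smul]
    · rw [character_eq_add ρ W W' hc, classInner_add_left] at h
      obtain ⟨x, hx⟩ := IsCharacter.exists_nat_classInner (isCharacter_character W.toRepresentation) hχ
      obtain ⟨y, hy⟩ := IsCharacter.exists_nat_classInner (isCharacter_character W'.toRepresentation) hχ
      rw [hx, hy] at h
      have hxy : x + y = 0 := by exact_mod_cast h
      have hsub : ∀ (U : Subrepresentation ρ) (u : U.toSubmodule),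
          opOfFun U.toRepresentation (fun g => conj (χ g)) = 0 → opOfFun ρ (fun g => conj (χ g)) u = 0 := by
        intro U u hU
        have h2 := congrArg (fun T : Module.End ℂ U.toSubmodule => ((T u : U.toSubmodule) : V)) hU
        simpa [opOfFun, LinearMap.sum_apply, Submodule.coe_sum, Subrepresentation.toRepresentation] using h2
      ext v
      obtain ⟨a, b, ha, hb, rfl⟩ := Submodule.codisjoint_iff_exists_add_eq.mp hc.codisjoint v
      rw [map_add,
        hsub W ⟨a, ha⟩ (ih _ (hn ▸ hW) W.toRepresentation
          (by rw [hx, show x = 0 by omega, Nat.cast_zero]) rfl),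
        hsub W' ⟨b, hb⟩ (ih _ (hn ▸ hW') W'.toRepresentation
          (by rw [hy, show y = 0 by omega, Nat.cast_zero]) rfl)]
      simp

/-- The twisted trace of a commuting endomorphism. -/
noncomputable def twistTrace (ρ : Representation ℂ G V) (D : Module.End ℂ V) : G → ℂ :=
  fun g => LinearMap.trace ℂ V (ρ g * D)

omit [Fintype G] [FiniteDimensional ℂ V] in
theorem twistTrace_isClassFunction (ρ : Representation ℂ G V) {D : Module.End ℂ V}
    (hD : ∀ g, D * ρ g = ρ g * D) : Cfsg.IsClassFunction G (twistTrace ρ D) := by
  intro g h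
  show LinearMap.trace ℂ V (ρ (h * g * h⁻¹) * D) = LinearMap.trace ℂ V (ρ g * D)
  have e : ρ (h * g * h⁻¹) * D = ρ h * (ρ g * D * ρ h⁻¹) := by
    rw [map_mul ρ, map_mul ρ, mul_assoc (ρ g) D, hD, mul_assoc, mul_assoc]
  rw [e, LinearMap.trace_mul_comm, mul_assoc, ← map_mul ρ, inv_mul_cancel, map_one ρ, mul_one]

omit [FiniteDimensional ℂ V] in
theorem classInner_twistTrace (ρ : Representation ℂ G V) (D : Module.End ℂ V) (χ : G → ℂ) :
    Cfsg.classInner (twistTrace ρ D) χ =
      (Nat.card G : ℂ)⁻¹ * LinearMap.trace ℂ V (opOfFun ρ (fun g => conj (χ g)) * D) := by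
  simp only [Cfsg.classInner, twistTrace, opOfFun, Finset.sum_mul, smul_mul_assoc, map_sum, map_smul,
    smul_eq_mul, mul_comm (conj _)]

theorem classInner_twistTrace_eq_zero (ρ : Representation ℂ G V) (D : Module.End ℂ V) {χ : G → ℂ}
    (hχ : Cfsg.IsIrrCharacter G χ) (h : Cfsg.classInner ρ.character χ = 0) :
    Cfsg.classInner (twistTrace ρ D) χ = 0 := by
  rw [classInner_twistTrace, opOfFun_conj_eq_zero ρ hχ h, zero_mul, map_zero, mul_zero]

/-- Real constituents: the twisted trace is invariant under inversion. -/
theorem twistTrace_inv (ρ : Representation ℂ G V) {D : Module.End ℂ V} (hD : ∀ g, D * ρ g = ρ g * D)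
    (hreal : ∀ χ : Cfsg.IrrCharacter G, Cfsg.classInner ρ.character χ.1 ≠ 0 → ∀ g, conj (χ.1 g) = χ.1 g)
    (g : G) : twistTrace ρ D g⁻¹ = twistTrace ρ D g := by
  have h := IsClassFunction.eq_sum_classInner (twistTrace_isClassFunction ρ hD)
  rw [congrFun h g⁻¹, congrFun h g, Finset.sum_apply, Finset.sum_apply]
  refine Finset.sum_congr rfl fun χ _ => ?_
  by_cases hχ : Cfsg.classInner ρ.character χ.1 = 0
  · simp [Pi.smul_apply, classInner_twistTrace_eq_zero ρ D χ.2 hχ]
  · rw [Pi.smul_apply, Pi.smul_apply, IsIrrCharacter.apply_inv χ.2, hreal χ hχ]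

omit [Fintype G] in
theorem trace_eq_add_restrict (W W' : Submodule ℂ V) (h : IsCompl W W') (F : Module.End ℂ V)
    (hW : ∀ x ∈ W, F x ∈ W) (hW' : ∀ x ∈ W', F x ∈ W') :
    LinearMap.trace ℂ V F =
      LinearMap.trace ℂ W (F.restrict hW) + LinearMap.trace ℂ W' (F.restrict hW') := by
  let e := Submodule.prodEquivOfIsCompl W W' h
  have he : F = e.conj ((F.restrict hW).prodMap (F.restrict hW')) := by
    ext v
    obtain ⟨⟨a, b⟩, rfl⟩ := e.surjective v
    simp [LinearEquiv.conj_apply, e, Submodule.coe_prodEquivOfIsCompl']
  conv_lhs => rw [he]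
  rw [LinearMap.trace_conj', LinearMap.trace_prodMap']

/-- In the multiplicity-free case the twisted trace determines the endomorphism. -/
theorem eq_zero_of_twistTrace (ρ : Representation ℂ G V) (hmf : Mf ρ) {D : Module.End ℂ V}
    (hD : ∀ g, D * ρ g = ρ g * D) (h0 : twistTrace ρ D = 0) : D = 0 := by
  induction hn : finrank ℂ V using Nat.strong_induction_on generalizing V with
  | _ n ih =>
    rcases trichotomy ρ with hs | hirr | ⟨W, W', hc, hW, hW'⟩
    · exact Subsingleton.elim _ _
    · obtain ⟨c, rfl⟩ := exists_scalar_of_commute ρ D hD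
      have h := congrFun h0 1
      simp only [twistTrace, map_one, one_mul, map_smul, LinearMap.trace_one, smul_eq_mul, Pi.zero_apply,
        mul_eq_zero, Nat.cast_eq_zero] at h
      rcases h with h | h
      · simp [h]
      · exact absurd h (CfsgLib.Char.finrank_pos_of_isIrreducible ρ).ne'
    · have hcomm := (commCentralizer_iff_mf ρ).2 hmf
      have hdis := hcomm.disjoint W W' hc
      have hdis' : Cfsg.classInner W'.toRepresentation.character W.toRepresentation.character = 0 := by
        rw [← classInner_conj_symm, hdis, map_zero]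
      have m1 := mapsTo_of_disjoint ρ W W' hc (intertwining_eq_zero _ _ hdis') D hD
      have m2 := mapsTo_of_disjoint ρ W' W hc.symm (intertwining_eq_zero _ _ hdis) D hD
      have d1 : ∀ g, (D.restrict m1) * W.toRepresentation g = W.toRepresentation g * D.restrict m1 :=
        fun g => LinearMap.ext fun y => Subtype.ext (LinearMap.congr_fun (hD g) (y : V))
      have d2 : ∀ g, (D.restrict m2) * W'.toRepresentation g = W'.toRepresentation g * D.restrict m2 :=
        fun g => LinearMap.ext fun y => Subtype.ext (LinearMap.congr_fun (hD g) (y : V))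
      have hsplit : ∀ g, twistTrace ρ D g =
          twistTrace W.toRepresentation (D.restrict m1) g + twistTrace W'.toRepresentation (D.restrict m2) g :=
        fun g => trace_eq_add_restrict W.toSubmodule W'.toSubmodule hc (ρ g * D)
          (fun x hx => W.apply_mem_toSubmodule g (m1 x hx)) (fun x hx => W'.apply_mem_toSubmodule g (m2 x hx))
      have hneg : twistTrace W'.toRepresentation (D.restrict m2) = -twistTrace W.toRepresentation (D.restrict m1) := by
        funext g
        have := hsplit g
        rw [h0, Pi.zero_apply] at this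
        rw [Pi.neg_apply]
        exact eq_neg_of_add_eq_zero_right this.symm
      have hθ : twistTrace W.toRepresentation (D.restrict m1) = 0 := by
        refine eq_zero_of_forall_classInner_eq_zero (twistTrace_isClassFunction _ d1) fun χ hχ => ?_
        rcases (classInner_eq_zero_iff_of_characters (isCharacter_character _) (isCharacter_character _)).1 hdis
            ⟨χ, hχ⟩ with h | h
        · exact classInner_twistTrace_eq_zero _ _ hχ h
        · have h2 := classInner_twistTrace_eq_zero W'.toRepresentation (D.restrict m2) hχ h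
          rwa [hneg, classInner_neg_left, neg_eq_zero] at h2
      have hθ' : twistTrace W'.toRepresentation (D.restrict m2) = 0 := by rw [hneg, hθ, neg_zero]
      have hmf1 : Mf W.toRepresentation := (commCentralizer_iff_mf _).1 (hcomm.part W W' hc)
      have hmf2 : Mf W'.toRepresentation := (commCentralizer_iff_mf _).1 (hcomm.part W' W hc.symm)
      have e1 := ih _ (hn ▸ hW) W.toRepresentation hmf1 d1 hθ rfl
      have e2 := ih _ (hn ▸ hW') W'.toRepresentation hmf2 d2 hθ' rfl
      ext v
      obtain ⟨a, b, ha, hb, rfl⟩ := Submodule.codisjoint_iff_exists_add_eq.mp hc.codisjoint v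
      have f1 : D a = 0 := congrArg Subtype.val (LinearMap.congr_fun e1 ⟨a, ha⟩)
      have f2 : D b = 0 := congrArg Subtype.val (LinearMap.congr_fun e2 ⟨b, hb⟩)
      rw [map_add, f1, f2]
      simp

end CfsgLib.PermChar
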