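import Cfsg.Agent.Lib.PermChar.SelfPaired

/-!
Eigenvalues of an orbital matrix in the multiplicity-free self-paired case: first and second moments.
-/

set_option autoImplicit false

open Module MulAction CfsgLib.Char
open scoped ComplexConjugate

namespace CfsgLib.PermChar

variable {G : Type*} [Group G] [Fintype G] {Ω : Type*} [MulAction G Ω] [Fintype Ω] [IsPretransitive G Ω]

/-- For a self-paired orbital of a multiplicity-free action: integral eigenvalues indexed by the constituents,
with the trace and the trace of the square. -/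
theorem exists_moments {a b : Ω} (hab : b ≠ a) (hsp : ∀ x y : Ω, ∃ g : G, g • x = y ∧ g • y = x)
    (hmf : ∀ χ : Cfsg.IrrCharacter G, mult Ω χ.1 ≤ 1) :
    ∃ ev : Cfsg.IrrCharacter G → ℂ, (∀ χ, IsIntegral ℤ (ev χ)) ∧
      ev principalIrr = Nat.card (orbit (stabilizer G a) b) ∧
      ∑ χ : Cfsg.IrrCharacter G, (mult Ω χ.1 : ℂ) * degree χ.1 * ev χ = 0 ∧
      ∑ χ : Cfsg.IrrCharacter G, (mult Ω χ.1 : ℂ) * degree χ.1 * ev χ ^ 2 =
        (Fintype.card Ω * Nat.card (orbit (stabilizer G a) b) : ℕ) := by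
  classical
  haveI : Nonempty Ω := ⟨a⟩
  set ρ := Cfsg.permRep ℂ G Ω with hρ
  let R : Ω → Ω → Prop := orbital (G := G) a b
  have hR : ∀ (h : G) (x y : Ω), R (h • x) (h • y) ↔ R x y := by
    refine fun h x y => ⟨fun ⟨g, g1, g2⟩ => ⟨h⁻¹ * g, ?_, ?_⟩, fun ⟨g, g1, g2⟩ => ⟨h * g, ?_, ?_⟩⟩
    · rw [mul_smul, g1, inv_smul_smul]
    · rw [mul_smul, g2, inv_smul_smul]
    · rw [mul_smul, g1]
    · rw [mul_smul, g2]
  have hsymm : ∀ x y, R x y → R y x := fun x y hxy => by
    obtain ⟨g, g1, g2⟩ := hsp x y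
    have := (hR g x y).2 hxy
    rwa [g1, g2] at this
  let MZ : Matrix Ω Ω ℤ := Matrix.of fun x y => if R x y then 1 else 0
  let A : Module.End ℂ (Ω → ℂ) := Matrix.toLin' (MZ.map (Int.castRingHom ℂ))
  have hA : ∀ (v : Ω → ℂ) (x : Ω), A v x = ∑ y, if R x y then v y else 0 := by
    intro v x
    show (MZ.map (Int.castRingHom ℂ)).mulVec v x = _
    rw [Matrix.mulVec, dotProduct]
    refine Finset.sum_congr rfl fun y _ => ?_
    simp only [Matrix.map_apply, MZ, Matrix.of_apply]
    split_ifs <;> simp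
  have hcomm : ∀ h : G, Commute A (ρ h) := by
    intro h
    apply LinearMap.ext
    intro v
    funext x
    show A (ρ h v) x = A v (h⁻¹ • x)
    rw [hA, hA]
    refine (Fintype.sum_equiv (MulAction.toPerm h) (fun y => if R (h⁻¹ • x) y then v y else 0)
      (fun y => if R x y then ρ h v y else 0) fun y => ?_).symm
    show (if R (h⁻¹ • x) y then v y else 0) = if R x (h • y) then v (h⁻¹ • h • y) else 0
    rw [inv_smul_smul]
    have e : R (h⁻¹ • x) y ↔ R x (h • y) := by
      rw [← hR h (h⁻¹ • x) y, smul_inv_smul]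
    simp only [e]
  set d := Nat.card (orbit (stabilizer G a) b) with hd
  have hrow : ∀ x, (∑ y, if R x y then (1 : ℂ) else 0) = (d : ℂ) := by
    intro x
    obtain ⟨h, rfl⟩ := exists_smul_eq G a x
    rw [Finset.sum_boole, hd, Nat.card_eq_fintype_card, ← Finset.card_map (MulAction.toPerm h⁻¹).toEmbedding]
    congr 1
    rw [Fintype.card_ofFinset]
    congr 1
    ext y
    simp only [Finset.mem_map, Finset.mem_filter, Finset.mem_univ, true_and, Equiv.coe_toEmbedding,
      MulAction.toPerm_apply]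
    constructor
    · rintro ⟨z, hz, rfl⟩
      obtain ⟨g, g1, g2⟩ := hz
      refine ⟨⟨h⁻¹ * g, ?_⟩, ?_⟩
      · rw [mem_stabilizer_iff, mul_smul, g1, inv_smul_smul]
      · show (h⁻¹ * g) • b = h⁻¹ • z
        rw [mul_smul, g2]
    · rintro ⟨⟨g, hg⟩, rfl⟩
      exact ⟨h • g • b, ⟨h * g, by rw [mul_smul, mem_stabilizer_iff.1 hg], by rw [mul_smul]⟩,
        inv_smul_smul h _⟩
  have hconst : A (fun _ => 1) = (d : ℂ) • (fun _ => 1) := by
    funext x
    rw [hA, hrow, Pi.smul_apply, smul_eq_mul, mul_one]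
  have hdiag : ∀ x, ¬ R x x := by
    rintro x ⟨g, g1, g2⟩
    exact hab (MulAction.injective g (g2.trans g1.symm))
  -- the two traces
  have htr1 : LinearMap.trace ℂ _ A = 0 := by
    rw [show A = Matrix.toLin' (MZ.map (Int.castRingHom ℂ)) from rfl, Matrix.trace_toLin'_eq]
    refine Finset.sum_eq_zero fun x _ => ?_
    simp only [Matrix.diag_apply, Matrix.map_apply, MZ, Matrix.of_apply]
    rw [if_neg (hdiag x), map_zero]
  have htr2 : LinearMap.trace ℂ _ (A * A) = (Fintype.card Ω * d : ℕ) := by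
    rw [LinearMap.trace_eq_matrix_trace ℂ (Pi.basisFun ℂ Ω), Matrix.trace, Nat.cast_mul,
      ← nsmul_eq_mul, ← Finset.card_univ, ← Finset.sum_const]
    refine Finset.sum_congr rfl fun x _ => ?_
    simp only [Matrix.diag_apply, LinearMap.toMatrix_apply, Pi.basisFun_apply, Pi.basisFun_repr, Module.End.mul_apply]
    rw [hA, ← hrow x]
    refine Finset.sum_congr rfl fun y _ => ?_
    split_ifs with hxy
    · rw [hA, Finset.sum_eq_single x]
      · rw [if_pos (hsymm x y hxy), Pi.single_eq_same]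
      · intro z _ hz
        rw [Pi.single_eq_of_ne hz, ite_self]
      · simp
    · rfl
  -- the generalised eigenspaces
  set E := A.maxGenEigenspace with hE
  have hint : DirectSum.IsInternal E := DirectSum.isInternal_submodule_of_iSupIndep_of_iSup_eq_top
    A.independent_maxGenEigenspace (Module.End.iSup_maxGenEigenspace_eq_top A)
  have hfin : {μ | E μ ≠ ⊥}.Finite := WellFoundedGT.finite_ne_bot_of_iSupIndep A.independent_maxGenEigenspace
  have hAE : ∀ μ, Set.MapsTo A (E μ) (E μ) := fun μ => A.mapsTo_maxGenEigenspace_of_comm (Commute.refl A) μ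
  have hAE2 : ∀ μ, Set.MapsTo (A * A) (E μ) (E μ) := fun μ => (hAE μ).comp (hAE μ)
  have htrμ : ∀ μ, LinearMap.trace ℂ _ (A.restrict (hAE μ)) = μ * (finrank ℂ (E μ) : ℂ) ∧
      LinearMap.trace ℂ _ ((A * A).restrict (hAE2 μ)) = μ ^ 2 * (finrank ℂ (E μ) : ℂ) := by
    intro μ
    set N := LinearMap.restrict (A - algebraMap ℂ _ μ)
        (A.mapsTo_maxGenEigenspace_of_comm (Algebra.mul_sub_algebraMap_commutes A μ) μ) with hN
    have hn : IsNilpotent N := A.isNilpotent_restrict_maxGenEigenspace_sub_algebraMap μ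
    have h0 := (LinearMap.isNilpotent_trace_of_isNilpotent hn).eq_zero
    have h00 := (LinearMap.isNilpotent_trace_of_isNilpotent
      (show IsNilpotent (N * N) from (Commute.refl N).isNilpotent_mul_right hn)).eq_zero
    have e : A.restrict (hAE μ) = N + μ • LinearMap.id := by
      refine LinearMap.ext fun v => Subtype.ext ?_
      show A (v : Ω → ℂ) = (A - algebraMap ℂ _ μ) (v : Ω → ℂ) + μ • (v : Ω → ℂ)
      rw [LinearMap.sub_apply, Module.algebraMap_end_apply, sub_add_cancel]
    have e2 : (A * A).restrict (hAE2 μ) =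
        (A.restrict (hAE μ) : Module.End ℂ (E μ)) * A.restrict (hAE μ) :=
      LinearMap.ext fun v => Subtype.ext rfl
    refine ⟨by rw [e, map_add, h0, zero_add, map_smul, LinearMap.trace_id, smul_eq_mul], ?_⟩
    rw [e2, e]
    change LinearMap.trace ℂ _ ((N + μ • (1 : Module.End ℂ (E μ))) * (N + μ • (1 : Module.End ℂ (E μ)))) = _
    simp only [add_mul, mul_add, smul_mul_assoc, mul_smul_comm, one_mul, mul_one, smul_smul, map_add, map_smul,
      h0, h00, LinearMap.trace_one, smul_eq_mul, mul_zero, add_zero, zero_add]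
    rw [pow_two, mul_assoc]
  let S : ℂ → Subrepresentation ρ := fun μ =>
    { toSubmodule := E μ
      apply_mem_toSubmodule := fun g v hv => A.mapsTo_maxGenEigenspace_of_comm (hcomm g) μ hv }
  set s := hfin.toFinset with hs
  have hchar : piFun G Ω = ∑ μ ∈ s, (S μ).toRepresentation.character := by
    rw [piFun_eq_character]
    funext g
    rw [Finset.sum_apply]
    exact LinearMap.trace_eq_sum_trace_restrict' hint hfin fun μ v hv => (S μ).apply_mem_toSubmodule g hv
  have hψc : ∀ μ, Cfsg.IsCharacter G (S μ).toRepresentation.character := fun μ => isCharacter_character _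
  choose m hm using fun (μ : ℂ) (χ : Cfsg.IrrCharacter G) => IsCharacter.exists_nat_classInner (hψc μ) χ.2
  have hmsum : ∀ χ : Cfsg.IrrCharacter G, ∑ μ ∈ s, m μ χ = mult Ω χ.1 := by
    intro χ
    have h := cast_mult (Ω := Ω) χ.2
    rw [hchar, classInner_sum_left] at h
    simp only [hm] at h
    exact_mod_cast h.symm
  have hdim : ∀ μ, (finrank ℂ (E μ) : ℂ) = ∑ χ : Cfsg.IrrCharacter G, (m μ χ : ℂ) * degree χ.1 := by
    intro μ
    have h1 : (S μ).toRepresentation.character 1 = (finrank ℂ (E μ) : ℂ) := (S μ).toRepresentation.char_one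
    rw [← h1]
    conv_lhs => rw [IsCharacter.eq_sum_classInner (hψc μ)]
    simp only [Finset.sum_apply, Pi.smul_apply, smul_eq_mul, hm,
      fun χ : Cfsg.IrrCharacter G => (IsCharacter.degree_cast (IsIrrCharacter.isCharacter χ.2)).symm]
  have hroot : ∀ μ, E μ ≠ ⊥ → IsIntegral ℤ μ := by
    intro μ hμ
    have hev : A.HasEigenvalue μ :=
      Module.End.hasEigenvalue_of_hasGenEigenvalue (k := (finrank ℂ (Ω → ℂ))) (by
        rw [Module.End.hasGenEigenvalue_iff]
        rwa [← Module.End.maxGenEigenspace_eq_genEigenspace_finrank])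
    rw [Module.End.hasEigenvalue_iff_isRoot_charpoly, Matrix.charpoly_toLin', Matrix.charpoly_map,
      Polynomial.IsRoot.def, Polynomial.eval_map] at hev
    exact ⟨MZ.charpoly, MZ.charpoly_monic, hev⟩
  refine ⟨fun χ => ∑ μ ∈ s, (m μ χ : ℂ) * μ, fun χ => ?_, ?_, ?_, ?_⟩
  · exact IsIntegral.sum _ fun μ hμ => IsIntegral.mul (isIntegral_algebraMap (R := ℤ) (x := (m μ χ : ℤ)))
      (hroot μ ((Set.Finite.mem_toFinset hfin).1 hμ))
  · -- the constants
    have hone : (fun _ => (1 : ℂ)) ∈ E d := by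
      rw [hE, Module.End.mem_maxGenEigenspace]
      exact ⟨1, by rw [pow_one]; simp [hconst]⟩
    have hds : (d : ℂ) ∈ s := by
      rw [hs, Set.Finite.mem_toFinset]
      intro h0
      rw [h0, Submodule.mem_bot] at hone
      exact one_ne_zero (congrFun hone a)
    have hpos : m d principalIrr ≠ 0 := by
      have hm1 := hm d principalIrr
      rw [show (principalIrr : Cfsg.IrrCharacter G).1 = fun _ => (1 : ℂ) from
        funext fun g => principalIrr_apply g, classInner_character_one, Nat.cast_inj] at hm1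
      let T : Representation.IntertwiningMap (Representation.trivial ℂ G ℂ) (S d).toRepresentation :=
        ⟨LinearMap.toSpanSingleton ℂ _ (⟨_, hone⟩ : (S d).toSubmodule), fun g => by
          apply LinearMap.ext
          intro t
          apply Subtype.ext
          simp [Subrepresentation.toRepresentation, ρ, Cfsg.permRep]⟩
      have hT : T ≠ 0 := by
        intro h
        have h2 := congrArg (fun F => ((F.toLinearMap (1 : ℂ) : (S d).toSubmodule) : Ω → ℂ) a) h
        simp [T] at h2
      rw [← hm1]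
      haveI : Nontrivial (Representation.IntertwiningMap (Representation.trivial ℂ G ℂ)
        (S d).toRepresentation) := ⟨⟨T, 0, hT⟩⟩
      exact (Module.finrank_pos (R := ℂ) (M := Representation.IntertwiningMap (Representation.trivial ℂ G ℂ)
        (S d).toRepresentation)).ne'
    have h1 := hmsum principalIrr
    rw [mult_principal, ← Finset.add_sum_erase _ _ hds] at h1
    show ∑ μ ∈ s, (m μ principalIrr : ℂ) * μ = (d : ℂ)
    rw [← Finset.add_sum_erase _ _ hds, show m d principalIrr = 1 by omega, Nat.cast_one, one_mul]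
    have h2 : ∑ μ ∈ s.erase (d : ℂ), m μ principalIrr = 0 := by omega
    rw [Finset.sum_eq_zero (fun μ hμ => by rw [(Finset.sum_eq_zero_iff).1 h2 μ hμ, Nat.cast_zero, zero_mul]),
      add_zero]
  · rw [← htr1, LinearMap.trace_eq_sum_trace_restrict' hint hfin hAE]
    simp only [fun μ => (htrμ μ).1, hdim, Finset.mul_sum, ← hs]
    conv_rhs => rw [Finset.sum_comm]
    refine Finset.sum_congr rfl fun χ _ => Finset.sum_congr rfl fun μ _ => ?_
    by_cases h : m μ χ = 0
    · simp [h]
    have hle : m μ χ ≤ mult Ω χ.1 := by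
      rw [← hmsum χ]
      exact Finset.single_le_sum (f := fun ν => m ν χ) (fun _ _ => Nat.zero_le _) (by assumption)
    have := hmf χ
    rw [show mult Ω χ.1 = 1 by omega, show m μ χ = 1 by omega]
    push_cast
    ring
  · rw [← htr2, LinearMap.trace_eq_sum_trace_restrict' hint hfin hAE2]
    simp only [fun μ => (htrμ μ).2, hdim, Finset.mul_sum, ← hs]
    rw [Finset.sum_comm (s := s)]
    refine Finset.sum_congr rfl fun χ _ => ?_
    rcases Nat.le_one_iff_eq_zero_or_eq_one.1 (hmf χ) with h | h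
    · have hz : ∀ μ ∈ s, m μ χ = 0 := fun μ hμ => (Finset.sum_eq_zero_iff).1 ((hmsum χ).trans h) μ hμ
      rw [h, Nat.cast_zero, zero_mul, zero_mul, Finset.sum_eq_zero fun μ hμ => by rw [hz μ hμ]; simp]
    · obtain ⟨μ0, hμ0, hne⟩ := Finset.exists_ne_zero_of_sum_ne_zero
        (show ∑ μ ∈ s, m μ χ ≠ 0 by rw [hmsum, h]; exact one_ne_zero)
      have h2 := hmsum χ
      rw [h, ← Finset.add_sum_erase _ _ hμ0] at h2
      have hrest : ∀ μ ∈ s, μ ≠ μ0 → m μ χ = 0 := fun μ hμ hμne =>
        (Finset.sum_eq_zero_iff).1 (show ∑ μ ∈ s.erase μ0, m μ χ = 0 by omega) μ (Finset.mem_erase.2 ⟨hμne, hμ⟩)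
      rw [Finset.sum_eq_single μ0 (fun μ hμ hne' => by rw [hrest μ hμ hne']; simp) (fun h' => absurd hμ0 h'),
        Finset.sum_eq_single μ0 (fun μ hμ hne' => by rw [hrest μ hμ hne']; simp) (fun h' => absurd hμ0 h'),
        h, show m μ0 χ = 1 by omega]
      push_cast
      ring

end CfsgLib.PermChar
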