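import Cfsg.Agent.Lib.PermChar.Commutant

/-!
Self-paired orbitals: multiplicity-free permutation character with real constituents.
-/

set_option autoImplicit false

open Module MulAction CfsgLib.Char
open scoped ComplexConjugate

namespace CfsgLib.PermChar

variable {G : Type*} [Group G] {Ω : Type*} [MulAction G Ω]

theorem permRep_single [DecidableEq Ω] (g : G) (x : Ω) :
    Cfsg.permRep ℂ G Ω g (Pi.single x 1) = Pi.single (g • x) 1 := by
  funext y
  show (Pi.single x 1 : Ω → ℂ) (g⁻¹ • y) = (Pi.single (g • x) 1 : Ω → ℂ) y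
  simp only [Pi.single_apply, inv_smul_eq_iff]

variable [Fintype Ω]

/-- With all orbitals self-paired every commuting endomorphism has a symmetric matrix. -/
theorem symm_of_selfPaired [DecidableEq Ω] (hsp : ∀ a b : Ω, ∃ g : G, g • a = b ∧ g • b = a)
    (S : Module.End ℂ (Ω → ℂ)) (hS : ∀ g, S * Cfsg.permRep ℂ G Ω g = Cfsg.permRep ℂ G Ω g * S) (x y : Ω) :
    S (Pi.single y 1) x = S (Pi.single x 1) y := by
  obtain ⟨g, g1, g2⟩ := hsp x y
  have h := congrFun (LinearMap.congr_fun (hS g) (Pi.single x 1)) x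
  simp only [Module.End.mul_apply, permRep_single, g1] at h
  rw [h]
  show S (Pi.single x 1) (g⁻¹ • x) = _
  rw [show g⁻¹ • x = y from inv_smul_eq_iff.2 g2.symm]

variable [Fintype G]

theorem commCentralizer_of_selfPaired (hsp : ∀ a b : Ω, ∃ g : G, g • a = b ∧ g • b = a) :
    CommCentralizer (Cfsg.permRep ℂ G Ω) := by
  classical
  intro S T hS hT
  have hexp : ∀ (F : Module.End ℂ (Ω → ℂ)) (v : Ω → ℂ) (x : Ω), F v x = ∑ z, v z * F (Pi.single z 1) x := by
    intro F v x
    conv_lhs => rw [show v = ∑ z, v z • (Pi.single z 1 : Ω → ℂ) from funext fun w => by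
      simp [Finset.sum_apply, Pi.single_apply]]
    simp [map_sum, map_smul, Finset.sum_apply]
  have hTS : ∀ g, (T * S) * Cfsg.permRep ℂ G Ω g = Cfsg.permRep ℂ G Ω g * (T * S) := fun g => by
    rw [mul_assoc, hS, ← mul_assoc, hT, mul_assoc]
  refine (Pi.basisFun ℂ Ω).ext fun y => ?_
  rw [Pi.basisFun_apply]
  funext x
  calc (S * T) (Pi.single y 1) x = ∑ z, T (Pi.single y 1) z * S (Pi.single z 1) x := hexp S _ x
    _ = ∑ z, S (Pi.single x 1) z * T (Pi.single z 1) y := by
        refine Finset.sum_congr rfl fun z _ => ?_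
        rw [symm_of_selfPaired hsp S hS x z, symm_of_selfPaired hsp T hT z y, mul_comm]
    _ = T (S (Pi.single x 1)) y := (hexp T _ y).symm
    _ = (T * S) (Pi.single y 1) x := (symm_of_selfPaired hsp (T * S) hTS x y).symm

/-- With all orbitals self-paired every constituent is real. -/
theorem real_of_selfPaired (hsp : ∀ a b : Ω, ∃ g : G, g • a = b ∧ g • b = a) {χ : G → ℂ}
    (hχ : Cfsg.IsIrrCharacter G χ) (hm : Cfsg.classInner (piFun G Ω) χ ≠ 0) : ∀ g, conj (χ g) = χ g := by
  classical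
  set ρ := Cfsg.permRep ℂ G Ω with hρ
  have hcl := IsIrrCharacter.isClassFunction hχ
  have hclc : Cfsg.IsClassFunction G (fun g => conj (χ g)) := fun g k => congrArg conj (hcl g k)
  have hP : ∀ g, opOfFun ρ (fun g => conj (χ g)) * ρ g = ρ g * opOfFun ρ (fun g => conj (χ g)) :=
    fun g => opOfFun_commute ρ hclc g
  have happ : ∀ (f : G → ℂ) (x y : Ω), opOfFun ρ f (Pi.single y 1) x = ∑ g, if g • y = x then f g else 0 := by
    intro f x y
    simp [opOfFun, LinearMap.sum_apply, hρ, permRep_single, Pi.single_apply, eq_comm]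
  have hPQ : opOfFun ρ (fun g => conj (χ g)) = opOfFun ρ χ := by
    refine (Pi.basisFun ℂ Ω).ext fun y => ?_
    rw [Pi.basisFun_apply]
    funext x
    rw [symm_of_selfPaired hsp _ hP, happ, happ]
    refine Fintype.sum_equiv (Equiv.inv G) _ _ fun g => ?_
    simp only [Equiv.inv_apply, inv_smul_eq_iff, IsIrrCharacter.apply_inv hχ, eq_comm (a := y)]
  by_contra hne
  obtain ⟨n, σ, hσ, rfl⟩ := hχ
  haveI := hσ
  rw [piFun_eq_character, classInner_character] at hm
  have hpos : 0 < finrank ℂ (Representation.IntertwiningMap σ (Cfsg.permRep ℂ G Ω)) :=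
    Nat.pos_of_ne_zero fun h => hm (by rw [h, Nat.cast_zero])
  haveI := Module.nontrivial_of_finrank_pos (R := ℂ) hpos
  obtain ⟨T, hT⟩ := exists_ne (0 : Representation.IntertwiningMap σ (Cfsg.permRep ℂ G Ω))
  have hcomm : ∀ (f : G → ℂ) (v : Fin n → ℂ), opOfFun ρ f (T v) = T (opOfFun σ f v) := by
    intro f v
    simp only [opOfFun, LinearMap.sum_apply, LinearMap.smul_apply, map_sum, map_smul]
    refine Finset.sum_congr rfl fun g _ => congrArg _ ?_
    exact (LinearMap.congr_fun (T.isIntertwining' g) v).symm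
  have h1 : ∑ g, conj (σ.character g) * σ.character g = (Nat.card G : ℂ) := by
    have h := classInner_irr_self (χ := σ.character) ⟨n, σ, hσ, rfl⟩
    rw [Cfsg.classInner, inv_mul_eq_iff_eq_mul₀ (Nat.cast_ne_zero.2 Nat.card_pos.ne'), mul_one] at h
    rw [← h]
    exact Finset.sum_congr rfl fun g _ => mul_comm _ _
  have h2 : ∑ g, σ.character g * σ.character g = 0 := by
    have h := classInner_irr_of_ne (χ := σ.character) ⟨n, σ, hσ, rfl⟩
      (IsIrrCharacter.conj_apply' (χ := σ.character) ⟨n, σ, hσ, rfl⟩) (fun e => hne fun g => (congrFun e g).symm)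
    rw [Cfsg.classInner, mul_eq_zero] at h
    rcases h with h | h
    · exact absurd h (inv_ne_zero (Nat.cast_ne_zero.2 Nat.card_pos.ne'))
    · rw [← h]
      exact Finset.sum_congr rfl fun g _ => by rw [Complex.conj_conj]
  apply hT
  apply Representation.IntertwiningMap.ext
  apply LinearMap.ext
  intro v
  have h := LinearMap.congr_fun hPQ (T v)
  rw [hcomm, hcomm, opOfFun_irreducible σ hclc, opOfFun_irreducible σ hcl, h1, h2, zero_div, zero_smul,
    LinearMap.zero_apply, map_zero, LinearMap.smul_apply, map_smul, LinearMap.id_apply, smul_eq_zero] at h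
  rcases h with h | h
  · rw [div_eq_zero_iff, Nat.cast_eq_zero, Nat.cast_eq_zero] at h
    rcases h with h | h
    · exact absurd h Nat.card_pos.ne'
    · exact absurd h (CfsgLib.Char.finrank_pos_of_isIrreducible σ).ne'
  · exact h

/-- Multiplicity-free with real constituents: all orbitals are self-paired. -/
theorem selfPaired_of_mf_real (hmf : Mf (Cfsg.permRep ℂ G Ω))
    (hreal : ∀ χ : Cfsg.IrrCharacter G, Cfsg.classInner (piFun G Ω) χ.1 ≠ 0 → ∀ g, conj (χ.1 g) = χ.1 g)
    (a b : Ω) : ∃ g : G, g • a = b ∧ g • b = a := by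
  classical
  set ρ := Cfsg.permRep ℂ G Ω with hρ
  let R : Ω → Ω → Prop := orbital (G := G) a b
  have hR : ∀ (h : G) (x y : Ω), R (h • x) (h • y) ↔ R x y := by
    refine fun h x y => ⟨fun ⟨g, g1, g2⟩ => ⟨h⁻¹ * g, ?_, ?_⟩, fun ⟨g, g1, g2⟩ => ⟨h * g, ?_, ?_⟩⟩
    · rw [mul_smul, g1, inv_smul_smul]
    · rw [mul_smul, g2, inv_smul_smul]
    · rw [mul_smul, g1]
    · rw [mul_smul, g2]
  let M : Matrix Ω Ω ℂ := Matrix.of fun x y => (if R x y then 1 else 0) - (if R y x then 1 else 0)
  let D : Module.End ℂ (Ω → ℂ) := Matrix.toLin' M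
  have hDapp : ∀ (v : Ω → ℂ) (x : Ω), D v x = ∑ y, M x y * v y := fun v x => rfl
  have hMh : ∀ (h : G) (x y : Ω), M (h • x) (h • y) = M x y := fun h x y => by
    simp only [M, Matrix.of_apply, hR]
  have hD : ∀ g, D * ρ g = ρ g * D := by
    intro h
    apply LinearMap.ext
    intro v
    funext x
    show D (ρ h v) x = D v (h⁻¹ • x)
    rw [hDapp, hDapp]
    refine (Fintype.sum_equiv (MulAction.toPerm h) (fun y => M (h⁻¹ • x) y * v y)
      (fun y => M x y * ρ h v y) fun y => ?_).symm
    show M (h⁻¹ • x) y * v y = M x (h • y) * v (h⁻¹ • h • y)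
    rw [inv_smul_smul, ← hMh h (h⁻¹ • x) y, smul_inv_smul]
  have htr : ∀ g, twistTrace ρ D g = ∑ x, M (g⁻¹ • x) x := by
    intro g
    rw [twistTrace, LinearMap.trace_eq_matrix_trace ℂ (Pi.basisFun ℂ Ω), Matrix.trace]
    refine Finset.sum_congr rfl fun x _ => ?_
    simp only [Matrix.diag_apply, LinearMap.toMatrix_apply, Pi.basisFun_apply, Pi.basisFun_repr]
    show D (Pi.single x 1) (g⁻¹ • x) = _
    simp [hDapp, Pi.single_apply]
  have hθ : twistTrace ρ D = 0 := by
    funext g
    have h1 := twistTrace_inv ρ hD (fun χ hχ => hreal χ (by rwa [piFun_eq_character])) g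
    have h2 : twistTrace ρ D g⁻¹ = -twistTrace ρ D g := by
      rw [htr, htr, inv_inv, ← Finset.sum_neg_distrib]
      refine Fintype.sum_equiv (MulAction.toPerm g) _ _ fun x => ?_
      simp only [MulAction.toPerm_apply, inv_smul_smul, M, Matrix.of_apply]
      ring
    rw [h1] at h2
    rw [Pi.zero_apply]
    linear_combination h2 / 2
  have hD0 := eq_zero_of_twistTrace ρ hmf hD hθ
  have hM : M a b = 0 := by
    have := congrFun (LinearMap.congr_fun hD0 (Pi.single b 1)) a
    simpa [hDapp, Pi.single_apply] using this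
  by_contra hc
  have hab : R a b := ⟨1, one_smul _ _, one_smul _ _⟩
  have hba : ¬ R b a := hc
  simp [M, hab, hba] at hM

end CfsgLib.PermChar
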